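import Cfsg.Agent.CoOneType.Codes
import Cfsg.Agent.SuzType.Codes

/-!
The elliptic space of dimension six as the orthogonal complement of an anisotropic plane in the
hyperbolic space of dimension eight, on codes.
-/

set_option autoImplicit false
set_option linter.all false
set_option maxRecDepth 100000
set_option maxHeartbeats 1000000

namespace Cfsg.Agent.CoOneThree

/-- The embedding. -/
def emb (i : ℕ) : ℕ :=
  (((if i.testBit 0 then 1 else 0) ^^^ (if i.testBit 1 then 2 else 0)) ^^^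
    ((if i.testBit 2 then 16 else 0) ^^^ (if i.testBit 3 then 32 else 0))) ^^^
    ((if i.testBit 4 then 136 else 0) ^^^ (if i.testBit 5 then 76 else 0))

/-- The projection. -/
def pj (v : ℕ) : ℕ :=
  (((if CoOneType.Bn v 16 then 1 else 0) ^^^ (if CoOneType.Bn v 32 then 2 else 0)) ^^^
    ((if CoOneType.Bn v 1 then 4 else 0) ^^^ (if CoOneType.Bn v 2 then 8 else 0))) ^^^
    ((if CoOneType.Bn v 76 then 16 else 0) ^^^ (if CoOneType.Bn v 136 then 32 else 0))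

/-- The component in the plane. -/
def pp (v : ℕ) : ℕ := v ^^^ emb (pj v)

/-- The plane. -/
def planeL : List ℕ := [0, 68, 140, 200]

/-- The rotation of the plane. -/
def r8 (v : ℕ) : ℕ := CoOneType.g2n 140 68 v

/-- An isometry inverting the rotation. -/
def t8 (v : ℕ) : ℕ := CoOneType.g2n 68 136 v

/-- Witnesses for the transitivity on non-singular vectors. -/
def wit1 : List ℕ := [
  0, 0, 0, 0, 0, 0, 0, 0, 0, 0, 0, 0, 0, 0, 0, 0,
  0, 10098, 0, 9841, 0, 4433, 0, 4435, 0, 10106, 0, 9849, 0, 4441, 0, 4443,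
  0, 0, 6001, 5490, 0, 0, 4450, 4451, 0, 0, 6009, 5498, 0, 0, 4458, 4459,
  0, 5986, 5475, 0, 0, 4465, 4466, 0, 0, 5994, 5483, 0, 0, 4473, 4474, 0,
  0, 0, 0, 0, 4369, 9767, 5399, 13622, 0, 0, 0, 0, 5405, 9775, 5407, 13630,
  0, 4373, 0, 4375, 9782, 0, 10037, 0, 0, 4381, 0, 4383, 9790, 0, 10045, 0,
  0, 0, 4390, 4391, 5429, 5942, 0, 0, 0, 0, 4398, 4399, 5437, 5950, 0, 0,
  0, 4405, 4406, 0, 5927, 0, 0, 5414, 0, 4413, 4414, 0, 5935, 0, 0, 5422,
  0, 0, 0, 0, 0, 0, 0, 0, 7633, 5592, 7635, 5594, 4552, 4553, 4554, 4555,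
  0, 7624, 0, 7626, 0, 4561, 0, 4563, 5577, 0, 5579, 0, 4568, 0, 4570, 0,
  0, 0, 6129, 5618, 0, 0, 4578, 4579, 6139, 5624, 0, 0, 4584, 4585, 0, 0,
  0, 6114, 5603, 0, 0, 4593, 4594, 0, 5609, 0, 0, 6120, 4600, 0, 0, 4603,
  0, 0, 0, 0, 5525, 7580, 5527, 7582, 4492, 4493, 4494, 4495, 0, 0, 0, 0,
  0, 4501, 0, 4503, 7565, 0, 7567, 0, 4508, 0, 4510, 0, 0, 5516, 0, 5518,
  0, 0, 4518, 4519, 5557, 6070, 0, 0, 4524, 4525, 0, 0, 0, 0, 5567, 6076,
  0, 4533, 4534, 0, 6055, 0, 0, 5542, 4540, 0, 0, 4543, 0, 5548, 6061, 0]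

/-- Witnesses for the transitivity on partners of the first vector of the plane. -/
def wit2 : List ℕ := [
  0, 0, 0, 0, 0, 0, 0, 0, 0, 0, 0, 0, 0, 0, 0, 0,
  0, 0, 0, 0, 0, 4573, 0, 4575, 0, 0, 0, 0, 0, 11262, 0, 11005,
  0, 0, 0, 0, 0, 0, 4590, 4591, 0, 0, 0, 0, 0, 0, 7165, 6654,
  0, 0, 0, 0, 0, 4605, 4606, 0, 0, 0, 0, 0, 0, 7150, 6639, 0,
  0, 0, 0, 0, 0, 0, 0, 0, 0, 0, 0, 0, 0, 0, 0, 0,
  0, 11186, 0, 10929, 0, 0, 0, 0, 0, 4497, 0, 4499, 0, 0, 0, 0,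
  0, 0, 7089, 6578, 0, 0, 0, 0, 0, 0, 4514, 4515, 0, 0, 0, 0,
  0, 7074, 6563, 0, 0, 0, 0, 0, 0, 4529, 4530, 0, 0, 0, 0, 0,
  0, 0, 0, 0, 0, 0, 0, 0, 0, 0, 0, 0, 4420, 4421, 4422, 4423,
  0, 0, 0, 0, 0, 6468, 0, 6470, 0, 0, 0, 0, 4436, 0, 4438, 0,
  0, 0, 0, 0, 0, 0, 6519, 7028, 0, 0, 0, 0, 4452, 4453, 0, 0,
  0, 0, 0, 0, 0, 6500, 7013, 0, 0, 0, 0, 0, 4468, 0, 0, 4471,
  0, 0, 0, 0, 0, 0, 0, 0, 4369, 10795, 6427, 14650, 0, 0, 0, 0,
  0, 4377, 0, 4379, 0, 0, 0, 0, 10810, 0, 11065, 0, 0, 0, 0, 0,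
  0, 0, 4394, 4395, 0, 0, 0, 0, 6457, 6970, 0, 0, 0, 0, 0, 0,
  0, 4409, 4410, 0, 0, 0, 0, 0, 6955, 0, 0, 6442, 0, 0, 0, 0]

theorem six_tables : ((List.range 64).all fun i => (emb i).blt 256 && (pj (emb i) == i) &&
    (planeL.all fun p => CoOneType.qn (emb i ^^^ p) == (SuzType.qn i != CoOneType.qn p)) &&
    (List.range 64).all fun j => emb (i ^^^ j) == emb i ^^^ emb j) = true := by decide +kernel

theorem eight_tables : ((List.range 256).all fun v => (pj v).blt 64 && planeL.contains (pp v) &&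
    (pj (r8 v) == pj v) && ((r8 v == v) == (pp v == 0)) && (r8 (r8 (r8 v)) == v) &&
    (r8 v).blt 256 && (t8 v).blt 256 && (t8 (r8 v) == r8 (r8 (t8 v)))) = true := by decide +kernel

theorem wit_one : ((List.range 256).all fun v => !(CoOneType.qn v) ||
    (let w := wit1.getD v 0
     let a := w / 256
     let b := w % 256
     a.blt 256 && CoOneType.qn a && CoOneType.qn b && (CoOneType.g2n a b v == 68))) = true := by decide +kernel

theorem wit_two : ((List.range 256).all fun v => !(CoOneType.qn v && CoOneType.Bn 68 v) ||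
    (let w := wit2.getD v 0
     let a := w / 256
     let b := w % 256
     a.blt 256 && CoOneType.qn a && CoOneType.qn b && !(CoOneType.Bn 68 a) && !(CoOneType.Bn 68 b) &&
      (CoOneType.g2n a b v == 200) && (CoOneType.g2n a b 68 == 68))) = true := by decide +kernel

/-- Sixteen vectors orthogonal to the first coordinate vector and to the plane. -/
def sgi : List ℕ := [0, 16, 32, 48, 2, 18, 34, 50, 8, 24, 40, 56, 10, 26, 42, 58]

theorem sgi_tables : ∀ i : Fin 16, sgi.getD i.val 0 < 64 ∧ CoOneType.Bn (emb (sgi.getD i.val 0)) 1 = false ∧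
    ∀ j : Fin 16, ([1, 2, 4, 8, 16, 32, 64, 128].all fun v => CoOneType.sgn (emb (sgi.getD i.val 0)) v ==
      CoOneType.sgn (emb (sgi.getD j.val 0)) v) = true → i = j := by decide +kernel

end Cfsg.Agent.CoOneThree
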