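import Cfsg.Agent.SuzType.Build
import Cfsg.Agent.Layer.PConstraint
import Cfsg.Prelude.Def_Spor_Suz

/-!
From the coordinate setting of Suzuki type back to the hypothesis on the centraliser.
-/

set_option autoImplicit false
set_option linter.all false

open Cfsg Cfsg.Agent.ThreeTrans.OrthCohom Cfsg.Agent.Classical.Quad QuadraticMap Cfsg.Agent.LargeExtra

namespace Cfsg.Agent.CoOneThree

open Cfsg.Agent.SuzType (Suz)

/-- Uniqueness of the group under the large extraspecial hypothesis. -/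
def Uniq (G : Type*) [Group G] [Finite G] : Prop :=
  ∀ (z : G) (_ : orderOf z = 2) (Q : Subgroup (Subgroup.centralizer ({z} : Set G))) [Q.Normal]
    (_ : Cfsg.generalizedFittingSubgroup (Subgroup.centralizer ({z} : Set G)) = Q) (_ : Cfsg.IsExtraspecial 2 Q)
    (_ : Nat.card Q = 2 ^ 7)
    (_ : (Subgroup.centralizer ({z} : Set G)) ⧸ Q ≃* Cfsg.Omega (ZMod 2) (Cfsg.quadFormMinus 2 (ZMod 2) 1 1))
    (_ : ∃ g : G, (∃ hq : g * z * g⁻¹ ∈ Subgroup.centralizer ({z} : Set G),
      (⟨g * z * g⁻¹, hq⟩ : Subgroup.centralizer ({z} : Set G)) ∈ Q) ∧ g * z * g⁻¹ ≠ z), Cfsg.Spor.IsoSuz G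

variable {G : Type*} [Group G] [Finite G] {z : G} (S : Suz z)
include S

/-- The action as a homomorphism. -/
noncomputable def actHom : ↥(Subgroup.centralizer ({z} : Set G)) →* ↥(isometryGroup (ZMod 2) ⇑(qM 2)) :=
  (oEquiv (qM 2)).symm.toMonoidHom.comp (MonoidHom.mk' (fun c => S.act c) fun a b =>
    S.act_mul (Subgroup.mem_centralizer_singleton_iff.1 a.2) (Subgroup.mem_centralizer_singleton_iff.1 b.2))

theorem actHom_apply (c : ↥(Subgroup.centralizer ({z} : Set G))) :
    oEquiv (qM 2) (actHom S c) = S.act c := (oEquiv (qM 2)).apply_symm_apply _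

theorem actHom_range : (actHom S).range = Omega (ZMod 2) ⇑(qM 2) := by
  obtain ⟨-, -, hm⟩ := SuzType.omega_facts
  ext g
  rw [hm, MonoidHom.mem_range]
  constructor
  · rintro ⟨c, rfl⟩
    rw [actHom_apply]
    exact S.act_even _ (Subgroup.mem_centralizer_singleton_iff.1 c.2)
  · intro hg
    obtain ⟨c, cz, e⟩ := S.act_surj _ hg
    exact ⟨⟨c, Subgroup.mem_centralizer_singleton_iff.2 cz⟩, (oEquiv (qM 2)).injective (by rw [actHom_apply, e])⟩

theorem actHom_ker : (actHom S).ker = pCore 2 ↥(Subgroup.centralizer ({z} : Set G)) := by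
  refine le_antisymm ?_ ?_
  · intro c hc
    rw [MonoidHom.mem_ker] at hc
    have h1 : S.act c = 1 := by rw [← actHom_apply S c, hc, map_one]
    obtain ⟨a, ha, e⟩ := S.act_ker c (Subgroup.mem_centralizer_singleton_iff.1 c.2) h1
    exact (Subtype.ext e : a = c) ▸ ha
  · intro c hc
    rw [MonoidHom.mem_ker]
    refine (oEquiv (qM 2)).injective ?_
    rw [actHom_apply, map_one]
    exact S.act_inner ⟨c, hc, rfl⟩

/-- The coordinate setting implies the hypothesis. -/
theorem iso_of_uniq (U : Uniq G) : Cfsg.Spor.IsoSuz G := by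
  haveI : Fact (Nat.Prime 2) := ⟨Nat.prime_two⟩
  let C := Subgroup.centralizer ({z} : Set G)
  have hcard : Nat.card ↥(pCore 2 ↥C) = 2 ^ 7 := by
    rw [← S.card]
    exact Nat.card_congr ((pCore 2 ↥C).equivMapOfInjective C.subtype C.subtype_injective).toEquiv
  refine U z S.sett.ord (pCore 2 ↥C) ?_ ?_ hcard ?_ ?_
  · refine Layer.generalizedFitting_eq_pCore_iff.2 fun c hc => ?_
    obtain ⟨a, ha, e⟩ := S.sett.cent (Subgroup.mem_centralizer_iff.2 (show ∀ q ∈ (oc z : Set G), q * (c : G) = c * q by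
      rintro _ ⟨q, hq, rfl⟩
      exact congrArg Subtype.val (Subgroup.mem_centralizer_iff.1 hc q hq)))
    exact (Subtype.ext e : a = c) ▸ ha
  · exact LargeExtra.extraspecial_congr ((pCore 2 ↥C).equivMapOfInjective C.subtype C.subtype_injective).symm S.sett.es
  · rw [← qM_coe]
    exact (QuotientGroup.quotientMulEquivOfEq (actHom_ker S).symm).trans
      ((QuotientGroup.quotientKerEquivRange (actHom S)).trans (MulEquiv.subgroupCongr (actHom_range S)))
  · obtain ⟨g, ⟨a, ha, e⟩, hne⟩ := S.nwc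
    exact ⟨g, ⟨Subgroup.mem_centralizer_singleton_iff.2 (S.comm ⟨a, ha, e⟩),
      (Subtype.ext e : a = ⟨g * z * g⁻¹, Subgroup.mem_centralizer_singleton_iff.2 (S.comm ⟨a, ha, e⟩)⟩) ▸ ha⟩, hne⟩

end Cfsg.Agent.CoOneThree
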