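import Cfsg.Agent.CoOneThree.Quot
import Cfsg.Agent.CoOneThree.Hyp
import Cfsg.Agent.SuzThree.Main
import Cfsg.Agent.SuzThree.Final
import Cfsg.Agent.CoOneType.Build
import Cfsg.Agent.CosetCert.SuzOrder.Main

/-!
The centraliser of an element of order three is a perfect central extension of the group of Suzuki type.
-/

set_option autoImplicit false
set_option linter.all false
set_option maxRecDepth 100000
set_option maxHeartbeats 1000000

open Cfsg Cfsg.Agent.ThreeTrans.OrthCohom Cfsg.Agent.Classical.Quad QuadraticMap Cfsg.Agent.LargeExtra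
open scoped commutatorElement

namespace Cfsg.Agent.CoOneThree

open Cfsg.Agent.CoOneType (CoOne)
open Cfsg.Agent.SuzThree (Cy Yn My pm mem_Cy pm_def pm_mul pm_one pm_inv pm_pow pm_surj pm_eq)

variable {G : Type*} [Group G] [Finite G] {z : G} {S : CoOne z} {x : G}

theorem comm_conj {H : Type*} [Group H] {a b y u v : H} (ha : a * y * a⁻¹ = y * u) (hb : b * y * b⁻¹ = y * v)
    (au : a * u = u * a) (av : a * v = v * a) (bu : b * u = u * b) (bv : b * v = v * b) (uv : u * v = v * u) :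
    a * b * a⁻¹ * b⁻¹ * y = y * (a * b * a⁻¹ * b⁻¹) := by
  have h1 : a * b * y * (a * b)⁻¹ = y * (u * v) := by
    calc a * b * y * (a * b)⁻¹ = a * (b * y * b⁻¹) * a⁻¹ := by group
      _ = a * (y * v) * a⁻¹ := by rw [hb]
      _ = a * y * a⁻¹ * (a * v * a⁻¹) := by group
      _ = y * (u * v) := by rw [ha, av, mul_inv_cancel_right, mul_assoc]
  have h2 : b * a * y * (b * a)⁻¹ = y * (u * v) := by
    calc b * a * y * (b * a)⁻¹ = b * (a * y * a⁻¹) * b⁻¹ := by group
      _ = b * (y * u) * b⁻¹ := by rw [ha]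
      _ = b * y * b⁻¹ * (b * u * b⁻¹) := by group
      _ = y * (u * v) := by rw [hb, bu, mul_inv_cancel_right, mul_assoc, uv]
  have hc : Commute (a * b * a⁻¹ * b⁻¹) (y * (u * v)) := by
    refine mul_inv_eq_iff_eq_mul.1 ?_
    calc a * b * a⁻¹ * b⁻¹ * (y * (u * v)) * (a * b * a⁻¹ * b⁻¹)⁻¹
        = a * b * a⁻¹ * b⁻¹ * (b * a * y * (b * a)⁻¹) * (a * b * a⁻¹ * b⁻¹)⁻¹ := by rw [h2]
      _ = a * b * y * (a * b)⁻¹ := by group
      _ = _ := h1
  have au' : Commute a u := au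
  have av' : Commute a v := av
  have bu' : Commute b u := bu
  have bv' : Commute b v := bv
  have cu : Commute (a * b * a⁻¹ * b⁻¹) (u * v) :=
    (((au'.mul_right av').mul_left (bu'.mul_right bv')).mul_left (au'.mul_right av').inv_left).mul_left
      (bu'.mul_right bv').inv_left
  have h3 := hc.mul_right cu.inv_right
  rwa [mul_inv_cancel_right] at h3

section

variable (h : Std3 S x)
include h

theorem fix_hp {y : G} (yz : y * z = z * y) (yx : y * x = x * y) (y3 : y ^ 3 = 1)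
    (hcard : Nat.card ↥(oc z ⊓ Cy x ⊓ Cy y) = 32) : SuzThree.fixN (hp S y) = 16 := by
  have hc := card_pre S (fun v => prP v = 0 ∧ (S.act y).1 v = v)
  have e1 : Nat.card {a : G // a ∈ oc z ∧ prP (S.pr a) = 0 ∧ (S.act y).1 (S.pr a) = S.pr a} =
      Nat.card ↥(oc z ⊓ Cy x ⊓ Cy y) := by
    refine Nat.card_congr (Equiv.subtypeEquivRight fun a => ?_)
    rw [Subgroup.mem_inf, Subgroup.mem_inf, mem_Cy, mem_Cy, and_assoc]
    refine and_congr_right fun ha => ?_
    rw [eq_comm (a := a * x), eq_comm (a := a * y), comm_iff_prP h ha, comm_iff_fixed S yz y3 ha]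
  have e2 : Nat.card {v : V8 // prP v = 0 ∧ (S.act y).1 v = v} = SuzThree.fixN (hp S y) := Nat.card_congr
    { toFun := fun v => ⟨prj v.1, by rw [← prj_act h yz yx, v.2.2]⟩
      invFun := fun u => ⟨iot u.1, prP_iot _, by
        rw [hFun_spec (act_commute h yz yx), hFun, prj_act h yz yx, prj_iot, u.2]⟩
      left_inv := fun v => Subtype.ext ((prP_zero_iff _).1 v.2.1)
      right_inv := fun u => Subtype.ext (prj_iot _) }
  rw [e1, e2, hcard] at hc
  omega

theorem image_type {T : SuzType.Suz (pm x z)}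
    (hT : ∀ c, c * z = z * c → c * x = x * c → T.act (pm x c) = hp S c)
    {y : G} (yz : y * z = z * y) (yx : y * x = x * y) (y3 : y ^ 3 = 1)
    (hcard : Nat.card ↥(oc z ⊓ Cy x ⊓ Cy y) = 32) : SuzThree.IsType T (pm x y) where
  yz := by rw [← pm_mul (mem_Cy.2 yx) (z_Cy h), ← pm_mul (z_Cy h) (mem_Cy.2 yx), yz]
  y3 := by rw [← pm_pow (mem_Cy.2 yx), y3, pm_one]
  ne := fun e => by
    have h1 := fix_hp h yz yx y3 hcard
    rw [hp_congr h yz yx (show (1 : G) * x = x * 1 by simp) (e.trans (pm_one x).symm), hp_inner h (one_mem _)] at h1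
    have h64 : SuzThree.fixN (1 : O6) = 64 := by
      rw [SuzThree.fixN, show (64 : ℕ) = Nat.card V6 by simp]
      exact Nat.card_congr (Equiv.subtypeUnivEquiv fun v => oG_one_apply v)
    omega
  fix := by rw [hT y yz yx, fix_hp h yz yx y3 hcard]

/-- Every element of the common centraliser is, modulo `x`, in its derived group. -/
theorem cover {y : G} (yz : y * z = z * y) (yx : y * x = x * y) (y3 : y ^ 3 = 1)
    (hcard : Nat.card ↥(oc z ⊓ Cy x ⊓ Cy y) = 32) :
    ∀ k ∈ Cy x ⊓ Cy y, ∃ d ∈ ⁅Cy x ⊓ Cy y, Cy x ⊓ Cy y⁆, ∃ i, i < 3 ∧ k = d * x ^ i := by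
  obtain ⟨T, hT⟩ := exists_suz h
  have hy := image_type h hT yz yx y3 hcard
  obtain ⟨T', hT'⟩ := SuzThree.exists_standard T hy
  have perf := SuzThree.perfect (S := T') (y := pm x y) ⟨hy.yz, hy.y3, hT'⟩
  set K : Subgroup G := Cy x ⊓ Cy y with hK
  set B : Subgroup (My x) := Cy (pm x y) with hB
  set Kb : Subgroup (My x) := (K.subgroupOf (Cy x)).map (QuotientGroup.mk' (Yn x)) with hKb
  have yC : y ∈ Cy x := mem_Cy.2 yx
  have hBB : B = ⁅B, B⁆ := by
    have h0 := congrArg (Subgroup.map B.subtype) perf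
    rw [commutator_def, Subgroup.map_commutator, ← MonoidHom.range_eq_map, Subgroup.range_subtype] at h0
    exact h0.symm
  have hle : ⁅B, B⁆ ≤ Kb := by
    rw [Subgroup.commutator_le]
    intro p hp q hq
    obtain ⟨a, ha, rfl⟩ := pm_surj p
    obtain ⟨b, hb, rfl⟩ := pm_surj q
    have shift : ∀ a, a ∈ Cy x → pm x a ∈ B → ∃ i : ℕ, a * y * a⁻¹ = y * x ^ i := by
      intro a ha hp
      have e : pm x y = pm x (a * y * a⁻¹) := by
        rw [pm_mul (mul_mem ha yC) (inv_mem ha), pm_mul ha yC, pm_inv ha, mem_Cy.1 hp, mul_inv_cancel_right]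
      obtain ⟨i, -, hi⟩ := pm_eq yC (mul_mem (mul_mem ha yC) (inv_mem ha)) h.y3 e
      exact ⟨i, hi⟩
    obtain ⟨i, hi⟩ := shift a ha hp
    obtain ⟨j, hj⟩ := shift b hb hq
    have ax : Commute a x := mem_Cy.1 ha
    have bx : Commute b x := mem_Cy.1 hb
    have hm := comm_conj hi hj (ax.pow_right i).eq (ax.pow_right j).eq (bx.pow_right i).eq (bx.pow_right j).eq
      (Commute.pow_pow_self x i j).eq
    have hC : a * b * a⁻¹ * b⁻¹ ∈ Cy x := mul_mem (mul_mem (mul_mem ha hb) (inv_mem ha)) (inv_mem hb)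
    refine ⟨⟨_, hC⟩, ⟨hC, mem_Cy.2 hm⟩, ?_⟩
    rw [← pm_def hC, pm_mul (mul_mem (mul_mem ha hb) (inv_mem ha)) (inv_mem hb), pm_mul (mul_mem ha hb) (inv_mem ha),
      pm_mul ha hb, pm_inv ha, pm_inv hb, commutatorElement_def]
  intro k hk
  have hk1 : k ∈ Cy x := hk.1
  have hkB : pm x k ∈ B := by
    rw [hB, mem_Cy, ← pm_mul hk1 yC, ← pm_mul yC hk1, mem_Cy.1 hk.2]
  have h2 : pm x k ∈ ⁅Kb, Kb⁆ := by
    have h0 : B ≤ Kb := hBB.le.trans hle
    exact Subgroup.commutator_mono h0 h0 (hBB ▸ hkB)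
  rw [hKb, ← Subgroup.map_commutator] at h2
  obtain ⟨d, hd, e⟩ := h2
  have hd' : (d : G) ∈ ⁅K, K⁆ := by
    have := Subgroup.mem_map_of_mem (Cy x).subtype hd
    rw [Subgroup.map_commutator, Subgroup.subgroupOf_map_subtype] at this
    exact Subgroup.commutator_mono inf_le_left inf_le_left this
  obtain ⟨i, hi, e'⟩ := pm_eq d.2 hk1 h.y3 (by rw [pm_def d.2]; exact e)
  exact ⟨_, hd', i, hi, e'⟩

/-- An element inverting `y` and centralising `x`. -/
theorem exists_inverter {y : G} (yz : y * z = z * y) (yx : y * x = x * y) (y3 : y ^ 3 = 1)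
    (hcard : Nat.card ↥(oc z ⊓ Cy x ⊓ Cy y) = 32) {g : O6} (hact : S.act y = ext g) :
    ∃ n, n * x = x * n ∧ n * y * n⁻¹ = y⁻¹ := by
  obtain ⟨T, hT⟩ := exists_suz h
  have yC : y ∈ Cy x := mem_Cy.2 yx
  have hci : Cy y⁻¹ = Cy y := by
    ext a
    exact ⟨fun ha => mem_Cy.2 (by simpa using (show Commute a y⁻¹ from mem_Cy.1 ha).inv_right.eq),
      fun ha => mem_Cy.2 (show Commute a y from mem_Cy.1 ha).inv_right.eq⟩
  have iy := image_type h hT (Commute.inv_left yz).eq (Commute.inv_left yx).eq (by rw [inv_pow, y3, inv_one])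
    (by rw [hci]; exact hcard)
  obtain ⟨m, mz, me⟩ := SuzThree.conj_type T (image_type h hT yz yx y3 hcard) iy
  obtain ⟨n, nC, nz, rfl⟩ := lift_cent h mz
  refine ⟨n, mem_Cy.1 nC, ?_⟩
  have e : pm x y⁻¹ = pm x (n * y * n⁻¹) := by
    rw [pm_mul (mul_mem nC yC) (inv_mem nC), pm_mul nC yC, pm_inv nC, me]
  obtain ⟨k, hk, hk'⟩ := pm_eq (inv_mem yC) (mul_mem (mul_mem nC yC) (inv_mem nC)) h.y3 e
  obtain ⟨-, i, -, hi⟩ := hp_spec h nz (mem_Cy.1 nC)
  have hl : S.act (n * y * n⁻¹) = ext (hp S n * g * (hp S n)⁻¹) := by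
    rw [act_conj S nz yz, hact, hi, map_mul, map_mul, map_inv]
    have hcm : R8 ^ i * ext g = ext g * R8 ^ i := ((ext_comm g).pow_left i).eq
    calc ext (hp S n) * R8 ^ i * ext g * (ext (hp S n) * R8 ^ i)⁻¹
        = ext (hp S n) * (R8 ^ i * ext g) * (R8 ^ i)⁻¹ * (ext (hp S n))⁻¹ := by group
      _ = _ := by rw [hcm]; group
  have hr : S.act (n * y * n⁻¹) = ext g⁻¹ * R8 ^ k := by
    rw [hk', S.act_mul (Commute.inv_left yz).eq (Commute.pow_left h.yz k).eq, S.act_inv yz, hact, act_pow S h.yz,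
      h.act, map_inv]
  have hu := ext_R8_unique (i := 0) (j := k) (by norm_num) hk (by rw [pow_zero, mul_one]; exact hl.symm.trans hr)
  rw [hk', ← hu.2, pow_zero, mul_one]

end

/-- The element `x` is in the derived group of the common centraliser. -/
theorem x_mem_derived (h : Std3 S x) {y : G} (yz : y * z = z * y) (yx : y * x = x * y) (y3 : y ^ 3 = 1)
    (hcard : Nat.card ↥(oc z ⊓ Cy x ⊓ Cy y) = 32) {g : O6} (hact : S.act y = ext g) (hfix : 64 ≤ fixN (S.act y))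
    (y1 : y ≠ 1) : x ∈ ⁅Cy x ⊓ Cy y, Cy x ⊓ Cy y⁆ := by
  obtain ⟨S', hS'⟩ := exists_standard S (y := y) ⟨yz, y3, y1, hfix⟩
  have h' : Std3 S' y := ⟨yz, y3, hS'⟩
  have xC : x ∈ Cy x := mem_Cy.2 rfl
  have hcard' : Nat.card ↥(oc z ⊓ Cy y ⊓ Cy x) = 32 := by rwa [inf_right_comm]
  have c1 := cover h yz yx y3 hcard
  have c2 := cover h' h.yz yx.symm h.y3 hcard'
  rw [inf_comm (Cy y) (Cy x)] at c2
  set K : Subgroup G := Cy x ⊓ Cy y with hK
  obtain ⟨d, hd, j, hj, hx⟩ := c2 x ⟨xC, mem_Cy.2 yx.symm⟩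
  obtain ⟨e, he, i, hi, hy⟩ := c1 y ⟨mem_Cy.2 yx, mem_Cy.2 rfl⟩
  by_cases hi0 : i = 0
  · rw [hi0, pow_zero, mul_one] at hy
    rw [hx, hy]
    exact mul_mem hd (pow_mem he j)
  obtain ⟨n, nx, ny⟩ := exists_inverter h yz yx y3 hcard hact
  have hn : K.map (MulAut.conj n).toMonoidHom ≤ K := by
    rintro _ ⟨a, ⟨a1, a2⟩, rfl⟩
    have a2' : Commute a y⁻¹ := (show Commute a y from mem_Cy.1 a2).inv_right
    refine Subgroup.mem_inf.2 ⟨(Cy x).mul_mem ((Cy x).mul_mem (mem_Cy.2 nx) a1) ((Cy x).inv_mem (mem_Cy.2 nx)), mem_Cy.2 ?_⟩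
    show n * a * n⁻¹ * y = y * (n * a * n⁻¹)
    have e1 : n⁻¹ * y * n = y⁻¹ := by
      have := congrArg (fun t => n⁻¹ * t⁻¹ * n) ny
      simpa [mul_assoc] using this.symm
    calc n * a * n⁻¹ * y = n * (a * (n⁻¹ * y * n)) * n⁻¹ := by group
      _ = n * ((n⁻¹ * y * n) * a) * n⁻¹ := by rw [e1, a2'.eq]
      _ = y * (n * a * n⁻¹) := by group
  have hne : n * e * n⁻¹ ∈ ⁅K, K⁆ := by
    have : n * e * n⁻¹ ∈ (⁅K, K⁆).map (MulAut.conj n).toMonoidHom := ⟨e, he, rfl⟩
    rw [Subgroup.map_commutator] at this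
    exact Subgroup.commutator_mono hn hn this
  have ee : e = y * (x ^ i)⁻¹ := by rw [hy, mul_inv_cancel_right]
  have nxi : n * (x ^ i)⁻¹ * n⁻¹ = (x ^ i)⁻¹ :=
    mul_inv_eq_iff_eq_mul.2 ((show Commute n x from nx).pow_right i).inv_right.eq
  have e3 : n * e * n⁻¹ * e = (x ^ i)⁻¹ * (x ^ i)⁻¹ := by
    have cxy : Commute (x ^ i)⁻¹ y := ((show Commute x y from yx.symm).pow_left i).inv_left
    calc n * e * n⁻¹ * e = n * y * n⁻¹ * (n * (x ^ i)⁻¹ * n⁻¹) * (y * (x ^ i)⁻¹) := by rw [ee]; group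
      _ = y⁻¹ * ((x ^ i)⁻¹ * y) * (x ^ i)⁻¹ := by rw [ny, nxi]; group
      _ = (x ^ i)⁻¹ * (x ^ i)⁻¹ := by rw [cxy.eq]; group
  have hm := mul_mem hne he
  rw [e3] at hm
  have x3 : x * (x * x) = 1 := by rw [← pow_two, ← pow_succ']; exact h.y3
  interval_cases i
  · exact absurd rfl hi0
  · have : x = (x ^ 1)⁻¹ * (x ^ 1)⁻¹ := by
      rw [pow_one, ← mul_inv_rev]
      exact eq_inv_of_mul_eq_one_left x3
    rwa [← this] at hm
  · have h2 := inv_mem hm
    have : x = ((x ^ 2)⁻¹ * (x ^ 2)⁻¹)⁻¹ := by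
      rw [mul_inv_rev, inv_inv]
      calc x = x * (x * (x * x)) := by rw [x3, mul_one]
        _ = x ^ 2 * x ^ 2 := by rw [pow_two]; group
    rwa [← this] at h2

section

variable (h : Std3 S x) (U : Uniq (My x))
include h U

theorem iso_M : Cfsg.Spor.IsoSuz (My x) := by
  obtain ⟨T, -⟩ := exists_suz h
  exact iso_of_uniq T U

theorem simple_M : IsSimpleGroup (My x) := by
  obtain ⟨e⟩ := iso_M h U
  haveI := CosetCert.SuzOrder.order_and_simple.1
  exact e.isSimpleGroup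

theorem center_M : Subgroup.center (My x) = ⊥ := by
  haveI := simple_M h U
  refine (IsSimpleGroup.eq_bot_or_eq_top_of_normal (Subgroup.center (My x)) inferInstance).resolve_right fun e => ?_
  obtain ⟨a, b, hab⟩ : ∃ a b : ↥(QM z x), a * b ≠ b * a := by
    by_contra hc
    push Not at hc
    have hz : Subgroup.center ↥(QM z x) = ⊤ := eq_top_iff.2 fun a _ => Subgroup.mem_center_iff.2 fun b => hc b a
    have h2 := (QM_es h).2
    rw [hz, Subgroup.card_top, QM_card h] at h2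
    norm_num at h2
  have hb : (b : My x) ∈ Subgroup.center (My x) := by rw [e]; exact Subgroup.mem_top _
  exact hab (Subtype.ext (Subgroup.mem_center_iff.1 hb a))

theorem commutator_M : commutator (My x) = ⊤ := by
  haveI := simple_M h U
  refine (IsSimpleGroup.eq_bot_or_eq_top_of_normal (commutator (My x)) inferInstance).resolve_left fun e => ?_
  have hz : pm x z ∈ Subgroup.center (My x) := Subgroup.mem_center_iff.2 fun m => by
    have hm : ⁅m, pm x z⁆ ∈ commutator (My x) :=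
      Subgroup.commutator_mem_commutator (Subgroup.mem_top _) (Subgroup.mem_top _)
    rw [e, Subgroup.mem_bot] at hm
    exact commutatorElement_eq_one_iff_mul_comm.1 hm
  rw [center_M h U, Subgroup.mem_bot] at hz
  exact zb_ne h hz

theorem perfect {y : G} (hx : x ∈ ⁅Cy x ⊓ Cy y, Cy x ⊓ Cy y⁆) : commutator ↥(Cy x) = ⊤ := by
  rw [eq_top_iff]
  intro g _
  obtain ⟨d, hd, e⟩ : QuotientGroup.mk' (Yn x) g ∈ (commutator ↥(Cy x)).map (QuotientGroup.mk' (Yn x)) := by
    rw [commutator_def, Subgroup.map_commutator, Subgroup.map_top_of_surjective _ (QuotientGroup.mk'_surjective _),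
      ← commutator_def, commutator_M h U]
    exact Subgroup.mem_top _
  have hxx : (⟨x, x_Cy x⟩ : ↥(Cy x)) ∈ commutator ↥(Cy x) := by
    have h1 : x ∈ (commutator ↥(Cy x)).map (Cy x).subtype := by
      rw [commutator_def, Subgroup.map_commutator, ← MonoidHom.range_eq_map, Subgroup.range_subtype]
      exact Subgroup.commutator_mono inf_le_left inf_le_left hx
    obtain ⟨a, ha, e⟩ := h1
    exact (Subtype.ext e : a = ⟨x, x_Cy x⟩) ▸ ha
  obtain ⟨k, hk, e'⟩ := pm_eq d.2 g.2 h.y3 (by rw [pm_def d.2, pm_def g.2]; exact e)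
  rw [show g = d * (⟨x, x_Cy x⟩ : ↥(Cy x)) ^ k from Subtype.ext e']
  exact mul_mem hd (pow_mem hxx k)

theorem center_eq : Subgroup.center ↥(Cy x) = Yn x := by
  refine le_antisymm (fun g hg => ?_) (fun g hg => ?_)
  · have : QuotientGroup.mk' (Yn x) g ∈ Subgroup.center (My x) := by
      rw [Subgroup.mem_center_iff]
      intro m
      obtain ⟨a, rfl⟩ := QuotientGroup.mk'_surjective (Yn x) m
      rw [← map_mul, Subgroup.mem_center_iff.1 hg a, map_mul]
    rw [center_M h U, Subgroup.mem_bot] at this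
    exact (QuotientGroup.eq_one_iff g).1 this
  · obtain ⟨k, hk⟩ := Subgroup.mem_zpowers_iff.1 (Subgroup.mem_subgroupOf.1 hg)
    rw [Subgroup.mem_center_iff]
    intro a
    refine Subtype.ext ?_
    show (a : G) * (g : G) = (g : G) * (a : G)
    rw [← hk]
    exact (Commute.zpow_right (mem_Cy.1 a.2) k).eq

theorem quasisimple {y : G} (hx : x ∈ ⁅Cy x ⊓ Cy y, Cy x ⊓ Cy y⁆) : Cfsg.IsQuasisimple ↥(Cy x) := by
  refine ⟨⟨perfect h U hx⟩, ?_⟩
  haveI := simple_M h U
  exact (QuotientGroup.quotientMulEquivOfEq (center_eq h U)).isSimpleGroup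

end

theorem transfer {y : G} (h : Std3 S x) (hx : x ∈ ⁅Cy x ⊓ Cy y, Cy x ⊓ Cy y⁆) (U : Uniq (My x))
    (C P : Subgroup G) (hC : C = Cy x) (hP : P = Subgroup.zpowers x) [(P.subgroupOf C).Normal] :
    Cfsg.IsQuasisimple ↥C ∧ Cfsg.Spor.IsoSuz (↥C ⧸ P.subgroupOf C) := by
  subst hC hP
  exact ⟨quasisimple h U hx, iso_M h U⟩

/-- The configuration from the hypothesis. -/
theorem of_co_type (z : G) (hz : orderOf z = 2) (Q : Subgroup (Subgroup.centralizer ({z} : Set G))) [Q.Normal]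
    (hF : generalizedFittingSubgroup (Subgroup.centralizer ({z} : Set G)) = Q) (hQ : IsExtraspecial 2 Q)
    (hcard : Nat.card Q = 2 ^ 9)
    (e : (Subgroup.centralizer ({z} : Set G)) ⧸ Q ≃* Omega (ZMod 2) (quadFormPlus 4 (ZMod 2)))
    (hnwc : ∃ g : G, (∃ hq : g * z * g⁻¹ ∈ Subgroup.centralizer ({z} : Set G),
      (⟨g * z * g⁻¹, hq⟩ : Subgroup.centralizer ({z} : Set G)) ∈ Q) ∧ g * z * g⁻¹ ≠ z)
    (X : Subgroup (Subgroup.centralizer ({z} : Set G))) (hX : Nat.card X = 3)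
    (hQX : Nat.card ↥⁅Q, X⁆ = 8) (hQXna : ¬ IsMulCommutative ↥⁅Q, X⁆)
    (Y : Subgroup (Subgroup.centralizer ({z} : Set G))) (hXY : X ≤ Y) (hY : Nat.card Y = 9)
    (hYe : ∀ y ∈ Y, y ^ 3 = 1)
    (hCQc : Nat.card ↥(Q ⊓ Subgroup.centralizer (Y : Set (Subgroup.centralizer ({z} : Set G)))) = 32) :
    ∃ (S : CoOne z) (x y : G), Std3 S x ∧ x ∈ ⁅Cy x ⊓ Cy y, Cy x ⊓ Cy y⁆ ∧
      X.map (Subgroup.subtype _) = Subgroup.zpowers x := by
  classical
  haveI : Fact (Nat.Prime 2) := ⟨Nat.prime_two⟩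
  haveI : Fact (Nat.Prime 3) := ⟨Nat.prime_three⟩
  obtain ⟨S₀⟩ := CoOneType.exists_co z hz Q hF hQ hcard e hnwc
  let C := Subgroup.centralizer ({z} : Set G)
  have hO : pCore 2 ↥C = Q := by
    refine le_antisymm ?_ ?_
    · rw [← hF]
      exact (Core.pCore_le_fittingSubgroup 2).trans le_sup_right
    · exact Core.le_pCore (IsPGroup.of_card hcard)
  have hoc : oc z = Q.map C.subtype := by rw [oc, hO]
  haveI : Nontrivial X := Finite.one_lt_card_iff_nontrivial.1 (by rw [hX]; norm_num)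
  obtain ⟨g, hg⟩ := exists_ne (1 : X)
  have og : orderOf ((g : ↥C) : G) = 3 := by
    rw [Subgroup.orderOf_coe, Subgroup.orderOf_coe]
    exact ((Nat.dvd_prime Nat.prime_three).1 (hX ▸ orderOf_dvd_natCard g)).resolve_left
      fun e => hg (orderOf_eq_one_iff.1 e)
  have hXz : X.map C.subtype = Subgroup.zpowers ((g : ↥C) : G) := by
    refine (Subgroup.eq_of_le_of_card_ge (Subgroup.zpowers_le.2
      (Subgroup.mem_map_of_mem _ g.2 : ((g : ↥C) : G) ∈ X.map C.subtype)) ?_).symm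
    rw [Nat.card_zpowers, Subgroup.coe_subtype, og,
      ← Nat.card_congr (X.equivMapOfInjective _ C.subtype_injective).toEquiv, hX]
  obtain ⟨x, hx⟩ : ∃ x, x = ((g : ↥C) : G) := ⟨_, rfl⟩
  rw [← hx] at og hXz
  have xz : x * z = z * x := hx ▸ Subgroup.mem_centralizer_singleton_iff.1 (g : ↥C).2
  have x3 : x ^ 3 = 1 := og ▸ pow_orderOf_eq_one x
  have x1 : x ≠ 1 := fun e => by rw [e, orderOf_one] at og; norm_num at og
  let W : Subgroup G := (⁅Q, X⁆).map C.subtype
  have hle : ⁅Q, X⁆ ≤ Q := Subgroup.commutator_le_left Q X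
  have hW : W ≤ oc z := by rw [hoc]; exact Subgroup.map_mono hle
  have hWz : z ∈ W := by
    obtain ⟨a, b, hab⟩ : ∃ a b : ↥⁅Q, X⁆, a * b ≠ b * a := by
      by_contra hc
      push Not at hc
      exact hQXna ⟨⟨hc⟩⟩
    have ha : ((a : ↥C) : G) ∈ W := ⟨a, a.2, rfl⟩
    have hb : ((b : ↥C) : G) ∈ W := ⟨b, b.2, rfl⟩
    have hc := S₀.commutator_eq (hW ha) (hW hb)
    rcases CoOneType.zmod_cases (CoOneType.Bp (S₀.pr ((a : ↥C) : G)) (S₀.pr ((b : ↥C) : G))) with e' | e'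
    · exfalso
      exact hab (Subtype.ext (Subtype.ext ((S₀.commute_iff (hW ha) (hW hb)).2 e')))
    · rw [e', CoOneType.zp_one] at hc
      rw [← hc]
      exact W.mul_mem (W.mul_mem (W.mul_mem ha hb) (W.inv_mem ha)) (W.inv_mem hb)
  have hWcard : Nat.card W = 8 := by
    rw [← Nat.card_congr ((⁅Q, X⁆).equivMapOfInjective _ C.subtype_injective).toEquiv, hQX]
  have hcom : ∀ a ∈ oc z, x * a * x⁻¹ * a⁻¹ ∈ W := by
    intro a ha
    rw [hoc] at ha
    obtain ⟨a', ha', rfl⟩ := ha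
    refine ⟨⁅a', (g : ↥C)⁆⁻¹, Subgroup.inv_mem _ (Subgroup.commutator_mem_commutator ha' g.2), ?_⟩
    rw [hx, commutatorElement_inv, commutatorElement_def]
    simp
  obtain ⟨S, hS⟩ := exists_standard S₀ (isType_of_comm S₀ xz x3 x1 W hW hWz hWcard hcom)
  have h : Std3 S x := ⟨xz, x3, hS⟩
  let YG : Subgroup G := Y.map C.subtype
  have hYG : Nat.card YG = 9 := by
    rw [← Nat.card_congr (Y.equivMapOfInjective _ C.subtype_injective).toEquiv, hY]
  have hY3 : ∀ a ∈ YG, a ^ 3 = 1 ∧ a * z = z * a := by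
    rintro _ ⟨a, ha, rfl⟩
    exact ⟨congrArg Subtype.val (hYe a ha), Subgroup.mem_centralizer_singleton_iff.1 a.2⟩
  have hcomm : ∀ a ∈ YG, ∀ b ∈ YG, a * b = b * a := by
    intro a ha b hb
    have hc : IsMulCommutative ↥YG :=
      IsPGroup.isMulCommutative_of_card_eq_prime_sq (p := 3) (by rw [hYG]; norm_num)
    exact congrArg Subtype.val (hc.is_comm.comm (⟨a, ha⟩ : YG) ⟨b, hb⟩)
  have hxY : x ∈ YG := hx ▸ ⟨(g : ↥C), hXY g.2, rfl⟩
  obtain ⟨y₀, hy₀, hy₀x⟩ : ∃ y₀ ∈ YG, y₀ ∉ Subgroup.zpowers x := by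
    by_contra hc
    push Not at hc
    have := Subgroup.card_le_of_le hc
    rw [hYG, Nat.card_zpowers, og] at this
    omega
  have y₀z := (hY3 _ hy₀).2
  obtain ⟨-, i, hi, hia⟩ := hp_spec h y₀z (hcomm _ hy₀ _ hxY)
  obtain ⟨y, hy⟩ : ∃ y, y = y₀ * (x ^ i)⁻¹ := ⟨_, rfl⟩
  have yY : y ∈ YG := hy ▸ mul_mem hy₀ (inv_mem (pow_mem hxY i))
  have y3 := (hY3 _ yY).1
  have yz := (hY3 _ yY).2
  have yx := hcomm _ yY _ hxY
  have yn : y ∉ Subgroup.zpowers x := fun hm => hy₀x (by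
    rw [show y₀ = y * x ^ i by rw [hy, inv_mul_cancel_right]]
    exact mul_mem hm (pow_mem (Subgroup.mem_zpowers x) i))
  have hact : S.act y = ext (hp S y₀) := by
    rw [hy, S.act_mul y₀z (Commute.inv_left (Commute.pow_left xz i)).eq, S.act_inv (Commute.pow_left xz i).eq,
      act_pow S xz, hS, hia, mul_inv_cancel_right]
  have hgen : YG = Subgroup.closure {x, y} := by
    refine (Subgroup.eq_of_le_of_card_ge ((Subgroup.closure_le _).2 (by
      rintro a (rfl | rfl); exacts [hxY, yY])) ?_).symm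
    by_contra hlt
    push Not at hlt
    have hle' : Subgroup.zpowers x ≤ Subgroup.closure {x, y} := Subgroup.zpowers_le.2 (Subgroup.subset_closure (by simp))
    have hd : Nat.card ↥(Subgroup.closure ({x, y} : Set G)) ∣ 3 ^ 2 := by
      rw [show (3 : ℕ) ^ 2 = Nat.card YG by rw [hYG]; norm_num]
      exact Subgroup.card_dvd_of_le ((Subgroup.closure_le _).2 (by rintro a (rfl | rfl); exacts [hxY, yY]))
    obtain ⟨j, hj, hj'⟩ := (Nat.dvd_prime_pow Nat.prime_three).1 hd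
    have h3 := Subgroup.card_le_of_le hle'
    rw [Nat.card_zpowers, og, hj'] at h3
    rw [hj', hYG] at hlt
    interval_cases j
    · norm_num at h3
    · refine yn (Subgroup.eq_of_le_of_card_ge hle' ?_ ▸ Subgroup.subset_closure (by simp))
      rw [Nat.card_zpowers, og, hj']; norm_num
    · norm_num at hlt
  have hc32 : Nat.card ↥(oc z ⊓ Cy x ⊓ Cy y) = 32 := by
    rw [← hCQc, Nat.card_congr ((Q ⊓ Subgroup.centralizer (Y : Set ↥C)).equivMapOfInjective _ C.subtype_injective).toEquiv]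
    congr 2
    ext a
    simp only [Subgroup.mem_map, Subgroup.mem_inf]
    constructor
    · rintro ⟨⟨ha, hax⟩, hay⟩
      obtain ⟨b, hb, rfl⟩ := hoc ▸ ha
      refine ⟨b, ⟨hb, Subgroup.mem_centralizer_iff.2 fun c hc => Subtype.ext ?_⟩, rfl⟩
      have hcY : (c : G) ∈ Subgroup.closure {x, y} := hgen ▸ Subgroup.mem_map_of_mem C.subtype hc
      have hle2 : Subgroup.closure {x, y} ≤ Subgroup.centralizer ({(b : G)} : Set G) := by
        rw [Subgroup.closure_le]
        rintro t (rfl | rfl)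
        · exact Subgroup.mem_centralizer_singleton_iff.2 (mem_Cy.1 hax).symm
        · exact Subgroup.mem_centralizer_singleton_iff.2 (mem_Cy.1 hay).symm
      exact Subgroup.mem_centralizer_singleton_iff.1 (hle2 hcY)
    · rintro ⟨b, ⟨hb, hbc⟩, rfl⟩
      have hbY : ∀ t ∈ YG, C.subtype b * t = t * C.subtype b := by
        rintro _ ⟨c, hc, rfl⟩
        exact congrArg Subtype.val (Subgroup.mem_centralizer_iff.1 hbc c hc).symm
      exact ⟨⟨hoc ▸ Subgroup.mem_map_of_mem _ hb, mem_Cy.2 (hbY x hxY)⟩, mem_Cy.2 (hbY y yY)⟩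
  have h16 := fix_hp h yz yx y3 hc32
  have hhp : hp S y = hp S y₀ := hpart_eq (S.act_even y yz) (act_commute h yz yx) fun u => by
    rw [hact, ext_iot, prj_iot]
  rw [hhp] at h16
  have hfix : 64 ≤ fixN (S.act y) := by
    rw [hact, show (64 : ℕ) = Nat.card ({u : V6 // (hp S y₀).1 u = u} × {v : V8 // prj v = 0}) from ?_]
    · refine Nat.card_le_card_of_injective (fun p => ⟨iot p.1.1 + p.2.1, ?_⟩) ?_
      · have hp0 : prP p.2.1 = p.2.1 := by rw [prP, p.2.2, iot_zero, add_zero]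
        rw [ext_apply, prj_add, prj_iot, p.2.2, add_zero, p.1.2, prP_add, prP_iot, zero_add, hp0]
      · rintro ⟨u, v⟩ ⟨u', v'⟩ e'
        have e2 : iot u.1 + v.1 = iot u'.1 + v'.1 := congrArg Subtype.val e'
        have hu := congrArg prj e2
        rw [prj_add, prj_add, prj_iot, prj_iot, v.2, v'.2, add_zero, add_zero] at hu
        obtain rfl : u = u' := Subtype.ext hu
        exact Prod.ext rfl (Subtype.ext (add_left_cancel e2))
    · rw [Nat.card_prod, show Nat.card {u : V6 // (hp S y₀).1 u = u} = 16 from h16]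
      have h4 : Nat.card {v : V8 // prj v = 0} = 4 := by
        rw [show (4 : ℕ) = Nat.card (Fin 4) by simp]
        refine (Nat.card_congr (Equiv.ofBijective (fun i : Fin 4 =>
          (⟨CoOneType.dc (planeL.getD i.val 0), ?_⟩ : {v : V8 // prj v = 0})) ⟨?_, ?_⟩)).symm
        · have hm : ∀ i : Fin 4, planeL.getD i.val 0 ∈ planeL := by decide
          rw [prj_dc (planeL_lt _ (hm i)), planeL_pj _ (hm i)]
          exact SuzType.dc_zero
        · intro i j e'
          have hlt : ∀ i : Fin 4, planeL.getD i.val 0 < 256 := by decide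
          have := CoOneType.dc_inj (hlt i) (hlt j) (congrArg Subtype.val e')
          have hnd : ∀ a b : Fin 4, planeL.getD a.val 0 = planeL.getD b.val 0 → a = b := by decide
          exact hnd i j this
        · rintro ⟨v, hv⟩
          obtain ⟨p, hp, -, e'⟩ := prP_code v
          rw [prP, hv, iot_zero, add_zero] at e'
          have hidx : ∀ p ∈ planeL, ∃ i : Fin 4, planeL.getD i.val 0 = p := by decide
          obtain ⟨i, hi⟩ := hidx p hp
          exact ⟨i, Subtype.ext ((congrArg CoOneType.dc hi).trans e'.symm)⟩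
      rw [h4]
  exact ⟨S, x, y, h, x_mem_derived h yz yx y3 hc32 hact hfix
    (fun e => yn (e ▸ one_mem _)), hXz⟩

end Cfsg.Agent.CoOneThree
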