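import Cfsg.Agent.CoOneThree.Three
import Cfsg.Agent.SuzThree.Side
import Cfsg.Agent.SuzType.Build
import Cfsg.Agent.Classical.OrthPOmega
import Cfsg.Agent.LargeExtra.Quotient

/-!
The quotient of the centraliser of an element of order three is of Suzuki type.
-/

set_option autoImplicit false
set_option linter.all false
set_option maxRecDepth 100000
set_option maxHeartbeats 1000000

open Cfsg Cfsg.Agent.ThreeTrans.OrthCohom Cfsg.Agent.Classical.Quad QuadraticMap Cfsg.Agent.LargeExtra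
open scoped commutatorElement

namespace Cfsg.Agent.CoOneThree

open Cfsg.Agent.CoOneType (CoOne)
open Cfsg.Agent.SuzThree (Cy Yn My pm mem_Cy pm_def pm_mul pm_one pm_inv pm_pow pm_surj pm_eq)

local notation "d8" => Cfsg.Agent.CoOneType.dc
local notation "d6" => Cfsg.Agent.SuzType.dc

/-- The part of an isometry commuting with the rotation on its fixed space. -/
noncomputable def hpart (g : O8) : O6 :=
  haveI := Classical.propDecidable (dsign g = 1 ∧ Commute R8 g)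
  if h : dsign g = 1 ∧ Commute R8 g then (classify h.1 h.2).choose else 1

theorem hpart_spec {g : O8} (hd : dsign g = 1) (hc : Commute R8 g) :
    dsign (hpart g) = 1 ∧ ∃ i, i < 3 ∧ g = ext (hpart g) * R8 ^ i := by
  rw [hpart, dif_pos ⟨hd, hc⟩]
  exact (classify hd hc).choose_spec

theorem prj_hpart {g : O8} (hd : dsign g = 1) (hc : Commute R8 g) (x : V8) :
    prj (g.1 x) = (hpart g).1 (prj x) := by
  obtain ⟨-, i, -, e⟩ := hpart_spec hd hc
  conv_lhs => rw [e]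
  exact prj_ext _ i x

theorem hpart_eq {g : O8} {h : O6} (hd : dsign g = 1) (hc : Commute R8 g)
    (e : ∀ u, prj (g.1 (iot u)) = h.1 u) : hpart g = h := ext_oG fun u => by
  rw [← e, prj_hpart hd hc, prj_iot]

theorem hpart_ext_mul {h : O6} (hh : dsign h = 1) (i : ℕ) : hpart (ext h * R8 ^ i) = h :=
  hpart_eq (by rw [dsign_mul8, dsign_ext, hh, dsign_pow8 R8_spec.1, one_mul])
    ((ext_comm h).mul_right ((Commute.refl R8).pow_right i)) fun u => by rw [prj_ext, prj_iot]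

/-- The even isometries. -/
noncomputable def ds6 : O6 →* ℤˣ := MonoidHom.mk' dsign dsign_mul6

theorem even_facts : IsSimpleGroup ↥ds6.ker ∧ Nat.card ↥ds6.ker = 25920 := by
  obtain ⟨-, hc, hm⟩ := SuzType.omega_facts
  rw [← qM_coe] at hc
  have hd : Module.finrank (ZMod 2) ((Fin 2 ⊕ Fin 2) ⊕ Fin 2 → ZMod 2) = 6 := by simp
  have hc1 : Nat.card ↥(Subgroup.center ↥(Omega (ZMod 2) ⇑(qM 2))) = 1 :=
    (Classical.Quad.card_center_omega nondegM2 (by omega)).2 (Or.inr rfl)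
  have hp := Classical.Quad.isSimpleGroup_pomega nondegM2 (by omega)
  have hs : IsSimpleGroup ↥(Omega (ZMod 2) ⇑(qM 2)) := by
    haveI := hp
    exact MulEquiv.isSimpleGroup
      (((QuotientGroup.quotientMulEquivOfEq (Subgroup.card_eq_one.1 hc1)).trans QuotientGroup.quotientBot).symm)
  have e : (Omega (ZMod 2) ⇑(qM 2)).map (oEquiv (qM 2)).toMonoidHom = ds6.ker := by
    ext g
    rw [MonoidHom.mem_ker, Subgroup.mem_map]
    constructor
    · rintro ⟨a, ha, rfl⟩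
      exact (hm a).1 ha
    · intro hg
      refine ⟨(oEquiv (qM 2)).symm g, (hm _).2 ?_, MulEquiv.apply_symm_apply _ _⟩
      rw [MulEquiv.apply_symm_apply]
      exact hg
  rw [← e]
  let ε := (Omega (ZMod 2) ⇑(qM 2)).equivMapOfInjective (oEquiv (qM 2)).toMonoidHom (oEquiv (qM 2)).injective
  haveI := hs
  exact ⟨ε.symm.isSimpleGroup, by rw [← Nat.card_congr ε.toEquiv, hc]⟩

/-- A normal two-subgroup of the even isometries is trivial. -/
theorem two_normal_even (N : Subgroup O6) (hle : N ≤ ds6.ker) (h2 : IsPGroup 2 ↥N)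
    (hn : ∀ g ∈ ds6.ker, ∀ a ∈ N, g * a * g⁻¹ ∈ N) : N = ⊥ := by
  obtain ⟨hs, hc⟩ := even_facts
  haveI := hs
  haveI : Fact (Nat.Prime 2) := ⟨Nat.prime_two⟩
  haveI : (N.subgroupOf ds6.ker).Normal := ⟨fun a ha g => hn g g.2 a ha⟩
  rcases IsSimpleGroup.eq_bot_or_eq_top_of_normal (N.subgroupOf ds6.ker) inferInstance with e | e
  · rw [Subgroup.subgroupOf_eq_bot, disjoint_iff] at e
    rwa [inf_eq_left.2 hle] at e
  · exfalso
    rw [Subgroup.subgroupOf_eq_top] at e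
    haveI : Finite O6 := Finite.of_injective (fun g : O6 => (g.1 : V6 → V6))
      fun a b e => ext_oG (congrFun e)
    obtain ⟨n, hn'⟩ := IsPGroup.iff_card.1 h2
    rw [le_antisymm hle e, hc] at hn'
    have h5 : 5 ∣ 2 ^ n := hn' ▸ (by norm_num : 5 ∣ 25920)
    exact absurd (Nat.le_of_dvd (by norm_num) (Nat.Prime.dvd_of_dvd_pow Nat.prime_five h5)) (by norm_num)

variable {G : Type*} [Group G] [Finite G] {z : G} {S : CoOne z} {x : G} (h : Std3 S x)

theorem x_Cy (x : G) : x ∈ Cy x := mem_Cy.2 rfl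

/-- The image of the fixed part of the extraspecial group. -/
noncomputable def QM (z x : G) : Subgroup (My x) :=
  ((oc z).subgroupOf (Cy x)).map (QuotientGroup.mk' (Yn x))

theorem mem_QM {m : My x} : m ∈ QM z x ↔ ∃ q ∈ oc z, q * x = x * q ∧ pm x q = m := by
  constructor
  · rintro ⟨q, hq, rfl⟩
    exact ⟨q, hq, mem_Cy.1 q.2, pm_def q.2⟩
  · rintro ⟨q, hq, hy, rfl⟩
    exact ⟨⟨q, mem_Cy.2 hy⟩, hq, (pm_def (mem_Cy.2 hy)).symm⟩

include h

theorem z_Cy : z ∈ Cy x := mem_Cy.2 h.yz.symm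

theorem z_four : z ^ 4 = 1 := pow_four S S.zmem

theorem two_part_eq {a b : G} (ha : a ∈ Cy x) (hb : b ∈ Cy x) (a4 : a ^ 4 = 1) (b4 : b ^ 4 = 1)
    (e : pm x a = pm x b) : a = b := by
  obtain ⟨k, hk, rfl⟩ := pm_eq ha hb h.y3 e
  have hc : Commute a (x ^ k) := (show Commute a x from mem_Cy.1 ha).pow_right k
  rw [hc.mul_pow, a4, one_mul] at b4
  have h3 : (x ^ k) ^ 3 = 1 := by rw [← pow_mul, mul_comm, pow_mul, h.y3, one_pow]
  rw [pow_succ, h3, one_mul] at b4
  rw [b4, mul_one]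

/-- A lift of an element commuting with the image of `z`. -/
theorem lift_cent {m : My x} (hm : m * pm x z = pm x z * m) :
    ∃ c, c ∈ Cy x ∧ c * z = z * c ∧ pm x c = m := by
  obtain ⟨c, hc, rfl⟩ := pm_surj m
  refine ⟨c, hc, ?_, rfl⟩
  have hz := z_Cy h
  have e : c * z * c⁻¹ = z := by
    refine two_part_eq h (mul_mem (mul_mem hc hz) (inv_mem hc)) hz (by rw [conj_pow, z_four h]; group) (z_four h) ?_
    rw [pm_mul (mul_mem hc hz) (inv_mem hc), pm_mul hc hz, pm_inv hc, hm, mul_inv_cancel_right]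
  exact mul_inv_eq_iff_eq_mul.1 e

theorem pm_pow_x (i : ℕ) : pm x (x ^ i) = 1 := by
  rw [pm_def (pow_mem (x_Cy x) i)]
  exact (QuotientGroup.eq_one_iff _).2 (Subgroup.mem_subgroupOf.2 (pow_mem (Subgroup.mem_zpowers x) _))

theorem pm_mul_x {a : G} (ha : a ∈ Cy x) (i : ℕ) : pm x (a * x ^ i) = pm x a := by
  rw [pm_mul ha (pow_mem (x_Cy x) i), pm_pow_x h, mul_one]

/-- The action on the six-dimensional space. -/
noncomputable def hp (S : CoOne z) (c : G) : O6 := hpart (S.act c)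

theorem act_commute {c : G} (cz : c * z = z * c) (cx : c * x = x * c) : Commute R8 (S.act c) := by
  show R8 * S.act c = S.act c * R8
  rw [← h.act, ← S.act_mul h.yz cz, ← S.act_mul cz h.yz, cx]

theorem hp_spec {c : G} (cz : c * z = z * c) (cx : c * x = x * c) :
    dsign (hp S c) = 1 ∧ ∃ i, i < 3 ∧ S.act c = ext (hp S c) * R8 ^ i :=
  hpart_spec (S.act_even c cz) (act_commute h cz cx)

theorem prj_act {c : G} (cz : c * z = z * c) (cx : c * x = x * c) (v : V8) :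
    prj ((S.act c).1 v) = (hp S c).1 (prj v) :=
  prj_hpart (S.act_even c cz) (act_commute h cz cx) v

theorem hp_mul {c d : G} (cz : c * z = z * c) (cx : c * x = x * c) (dz : d * z = z * d) (dx : d * x = x * d) :
    hp S (c * d) = hp S c * hp S d := by
  refine hpart_eq (S.act_even _ (Commute.mul_left cz dz).eq)
    (act_commute h (Commute.mul_left cz dz).eq (Commute.mul_left cx dx).eq) fun u => ?_
  rw [S.act_mul cz dz, oG_mul_apply, prj_act h cz cx, prj_act h dz dx, prj_iot, oG_mul_apply]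

theorem hp_inner {q : G} (hq : q ∈ oc z) : hp S q = 1 := by
  have : hp S q = hpart (ext 1 * R8 ^ 0) := by rw [hp, S.act_inner hq, map_one, pow_zero, mul_one]
  rw [this, hpart_ext_mul dsign_one]

theorem hp_x (i : ℕ) : hp S (x ^ i) = 1 := by
  have : hp S (x ^ i) = hpart (ext 1 * R8 ^ i) := by rw [hp, act_pow S h.yz, h.act, map_one, one_mul]
  rw [this, hpart_ext_mul dsign_one]

theorem hp_congr {c d : G} (cz : c * z = z * c) (cx : c * x = x * c) (dx : d * x = x * d)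
    (e : pm x c = pm x d) : hp S c = hp S d := by
  obtain ⟨k, hk, rfl⟩ := pm_eq (mem_Cy.2 cx) (mem_Cy.2 dx) h.y3 e
  rw [hp_mul h cz cx (Commute.pow_left h.yz k).eq (Commute.pow_left (Commute.refl x) k).eq, hp_x h, mul_one]

theorem hp_ker {c : G} (cz : c * z = z * c) (cx : c * x = x * c) (e : hp S c = 1) : pm x c ∈ QM z x := by
  obtain ⟨-, i, -, hi⟩ := hp_spec h cz cx
  rw [e, map_one, one_mul] at hi
  have xiz : (x ^ i)⁻¹ * z = z * (x ^ i)⁻¹ := (Commute.inv_left (Commute.pow_left h.yz i)).eq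
  have xic : x ^ i ∈ Cy x := pow_mem (x_Cy x) i
  refine mem_QM.2 ⟨c * (x ^ i)⁻¹, S.act_ker _ (Commute.mul_left cz xiz).eq ?_,
    mem_Cy.1 (mul_mem (mem_Cy.2 cx) (inv_mem xic)), ?_⟩
  · rw [S.act_mul cz xiz, S.act_inv (Commute.pow_left h.yz i).eq, act_pow S h.yz, h.act, hi, mul_inv_cancel]
  · rw [pm_mul (mem_Cy.2 cx) (inv_mem xic), pm_inv xic, pm_pow_x h, inv_one, mul_one]

theorem exists_hp {g : O6} (hg : dsign g = 1) : ∃ c, c * z = z * c ∧ c * x = x * c ∧ hp S c = g := by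
  obtain ⟨c, cz, cx, e⟩ := exists_cent h (g := ext g) (by rw [dsign_ext, hg]) (ext_comm g)
  refine ⟨c, cz, cx, ?_⟩
  have : hp S c = hpart (ext g * R8 ^ 0) := by rw [hp, e, pow_zero, mul_one]
  rw [this, hpart_ext_mul hg]

theorem fixed_prP {q : G} (hq : q ∈ oc z) (hy : q * x = x * q) : prP (S.pr q) = 0 :=
  (comm_iff_prP h hq).1 hy.symm

theorem exists_fixed (u : V6) : ∃ q ∈ oc z, q * x = x * q ∧ S.pr q = iot u := by
  obtain ⟨q, hq, e⟩ := S.pr_surj (iot u)
  exact ⟨q, hq, ((comm_iff_prP h hq).2 (by rw [e, prP_iot])).symm, e⟩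

theorem zb_ne : pm x z ≠ 1 := fun e =>
  S.zne (two_part_eq h (z_Cy h) (one_mem _) (z_four h) (one_pow 4) (e.trans (pm_one x).symm))

theorem zb_sq : pm x z * pm x z = 1 := by rw [← pm_mul (z_Cy h) (z_Cy h), S.zz, pm_one]

theorem zb_ord : orderOf (pm x z) = 2 :=
  orderOf_eq_prime (by rw [pow_two, zb_sq h]) (zb_ne h)

theorem zb_mem : pm x z ∈ QM z x := mem_QM.2 ⟨z, S.zmem, h.yz.symm, rfl⟩

theorem pm_zp (a : ZMod 2) : pm x (CoOneType.zp z a) = SuzType.zp (pm x z) a := by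
  rcases CoOneType.zmod_cases a with rfl | rfl
  · rw [CoOneType.zp_zero, SuzType.zp_zero, pm_one]
  · rw [CoOneType.zp_one, SuzType.zp_one]

theorem QM_le_cent : QM z x ≤ Subgroup.centralizer ({pm x z} : Set (My x)) := by
  intro m hm
  obtain ⟨q, hq, qx, rfl⟩ := mem_QM.1 hm
  rw [Subgroup.mem_centralizer_singleton_iff, ← pm_mul (mem_Cy.2 qx) (z_Cy h), ← pm_mul (z_Cy h) (mem_Cy.2 qx),
    S.comm hq]

theorem cent_conj {m a : My x} (hm : m * pm x z = pm x z * m) (ha : a ∈ QM z x) : m * a * m⁻¹ ∈ QM z x := by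
  obtain ⟨q, hq, qx, rfl⟩ := mem_QM.1 ha
  obtain ⟨c, hc, cz, rfl⟩ := lift_cent h hm
  refine mem_QM.2 ⟨c * q * c⁻¹, S.nrm cz hq, mem_Cy.1 (mul_mem (mul_mem hc (mem_Cy.2 qx)) (inv_mem hc)), ?_⟩
  rw [pm_mul (mul_mem hc (mem_Cy.2 qx)) (inv_mem hc), pm_mul hc (mem_Cy.2 qx), pm_inv hc]

/-- The map of the centraliser of the image of `z` to the isometries. -/
noncomputable def psi : ↥(Subgroup.centralizer ({pm x z} : Set (My x))) →* O6 :=
  MonoidHom.mk' (fun m => hp S (lift_cent h (Subgroup.mem_centralizer_singleton_iff.1 m.2)).choose) fun m n => by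
    obtain ⟨a1, a2, a3⟩ := (lift_cent h (Subgroup.mem_centralizer_singleton_iff.1 m.2)).choose_spec
    obtain ⟨b1, b2, b3⟩ := (lift_cent h (Subgroup.mem_centralizer_singleton_iff.1 n.2)).choose_spec
    obtain ⟨c1, c2, c3⟩ := (lift_cent h (Subgroup.mem_centralizer_singleton_iff.1 (m * n).2)).choose_spec
    rw [← hp_mul h a2 (mem_Cy.1 a1) b2 (mem_Cy.1 b1)]
    refine hp_congr h c2 (mem_Cy.1 c1) (mem_Cy.1 (mul_mem a1 b1)) ?_
    rw [c3, pm_mul a1 b1, a3, b3]
    rfl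

theorem psi_eq (m : ↥(Subgroup.centralizer ({pm x z} : Set (My x)))) {c : G} (cz : c * z = z * c)
    (cx : c * x = x * c) (e : pm x c = (m : My x)) : psi h m = hp S c := by
  obtain ⟨a1, a2, a3⟩ := (lift_cent h (Subgroup.mem_centralizer_singleton_iff.1 m.2)).choose_spec
  exact hp_congr h a2 (mem_Cy.1 a1) cx (a3.trans e.symm)

theorem oc_eq : oc (pm x z) = QM z x := by
  haveI : Fact (Nat.Prime 2) := ⟨Nat.prime_two⟩
  refine le_antisymm ?_ ?_
  · rintro _ ⟨m, hm, rfl⟩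
    have hbot : (pCore 2 ↥(Subgroup.centralizer ({pm x z} : Set (My x)))).map (psi h) = ⊥ := by
      refine two_normal_even _ ?_ (Core.pCore_isPGroup.map _) ?_
      · rintro _ ⟨n, -, rfl⟩
        obtain ⟨c, cC, cz, e⟩ := lift_cent h (Subgroup.mem_centralizer_singleton_iff.1 n.2)
        rw [MonoidHom.mem_ker, psi_eq h n cz (mem_Cy.1 cC) e]
        exact (hp_spec h cz (mem_Cy.1 cC)).1
      · rintro g hg _ ⟨n, hn, rfl⟩
        obtain ⟨c, cz, cx, rfl⟩ := exists_hp h (MonoidHom.mem_ker.1 hg)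
        have hmz : pm x c * pm x z = pm x z * pm x c := by
          rw [← pm_mul (mem_Cy.2 cx) (z_Cy h), ← pm_mul (z_Cy h) (mem_Cy.2 cx), cz]
        refine ⟨⟨pm x c, Subgroup.mem_centralizer_singleton_iff.2 hmz⟩ * n *
          ⟨pm x c, Subgroup.mem_centralizer_singleton_iff.2 hmz⟩⁻¹, (inferInstance : (pCore 2 _).Normal).conj_mem n hn _, ?_⟩
        rw [map_mul, map_mul, map_inv, psi_eq h ⟨pm x c, _⟩ cz cx rfl]
    have h1 : psi h m = 1 := Subgroup.mem_bot.1 (hbot ▸ Subgroup.mem_map_of_mem _ hm)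
    obtain ⟨c, cC, cz, e⟩ := lift_cent h (Subgroup.mem_centralizer_singleton_iff.1 m.2)
    rw [psi_eq h m cz (mem_Cy.1 cC) e] at h1
    rw [Subgroup.coe_subtype, ← e]
    exact hp_ker h cz (mem_Cy.1 cC) h1
  · haveI : (Subgroup.comap (Subgroup.centralizer ({pm x z} : Set (My x))).subtype (QM z x)).Normal :=
      ⟨fun a ha g => cent_conj h (Subgroup.mem_centralizer_singleton_iff.1 g.2) ha⟩
    have hp2 : IsPGroup 2 ↥(QM z x) :=
      IsPGroup.map ((oc_isPGroup z).comap_of_injective (Cy x).subtype (Cy x).subtype_injective) _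
    intro a ha
    exact ⟨⟨a, QM_le_cent h ha⟩,
      Core.le_pCore (hp2.comap_of_injective (Subgroup.centralizer ({pm x z} : Set (My x))).subtype
        (Subgroup.centralizer ({pm x z} : Set (My x))).subtype_injective) ha, rfl⟩

theorem cent_QM {m : My x} (hm : ∀ a ∈ QM z x, a * m = m * a) : m ∈ QM z x := by
  obtain ⟨c, cC, cz, rfl⟩ := lift_cent h (hm _ (zb_mem h)).symm
  refine hp_ker h cz (mem_Cy.1 cC) (ext_oG fun u => ?_)
  obtain ⟨q, hq, qx, e⟩ := exists_fixed h u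
  have qC := mem_Cy.2 qx
  have eq : c * q * c⁻¹ = q := by
    refine two_part_eq h (mul_mem (mul_mem cC qC) (inv_mem cC)) qC (pow_four S (S.nrm cz hq)) (pow_four S hq) ?_
    rw [pm_mul (mul_mem cC qC) (inv_mem cC), pm_mul cC qC, pm_inv cC, ← hm _ (mem_QM.2 ⟨q, hq, qx, rfl⟩),
      mul_inv_cancel_right]
  have := prj_act h cz (mem_Cy.1 cC) (S.pr q)
  rw [← S.act_spec c cz q hq, eq, e, prj_iot] at this
  rw [oG_one_apply]
  exact this.symm

theorem QM_es : IsExtraspecial 2 ↥(QM z x) := by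
  have hmem : ∀ a : ↥(QM z x), ∃ q, q ∈ oc z ∧ q * x = x * q ∧ pm x q = (a : My x) := fun a => mem_QM.1 a.2
  choose q hq qx qe using hmem
  have hp2 : IsPGroup 2 ↥(QM z x) :=
    IsPGroup.map ((oc_isPGroup z).comap_of_injective (Cy x).subtype (Cy x).subtype_injective) _
  refine extraspecial_of hp2 (w := ⟨pm x z, zb_mem h⟩) (fun e => zb_ne h (congrArg Subtype.val e))
    (Subtype.ext (zb_sq h)) ?_ ?_ ?_ ?_ ?_
  · rw [Subgroup.mem_center_iff]
    exact fun a => Subtype.ext (Subgroup.mem_centralizer_singleton_iff.1 (QM_le_cent h a.2))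
  · intro c hc
    have key : S.pr (q c) = 0 := by
      have h0 : prP (S.pr (q c)) = 0 := fixed_prP h (hq c) (qx c)
      have h1 : prj (S.pr (q c)) = 0 := by
        refine eq_zero_of_polar nondegM2 fun u => ?_
        obtain ⟨p, hp, px, pe⟩ := exists_fixed h u
        have hcp := congrArg Subtype.val (Subgroup.mem_center_iff.1 hc ⟨pm x p, mem_QM.2 ⟨p, hp, px, rfl⟩⟩)
        simp only [Subgroup.coe_mul] at hcp
        rw [← qe c, ← pm_mul (mem_Cy.2 px) (mem_Cy.2 (qx c)), ← pm_mul (mem_Cy.2 (qx c)) (mem_Cy.2 px)] at hcp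
        have heq := two_part_eq h (mul_mem (mem_Cy.2 px) (mem_Cy.2 (qx c))) (mul_mem (mem_Cy.2 (qx c)) (mem_Cy.2 px))
          (pow_four S (mul_mem hp (hq c))) (pow_four S (mul_mem (hq c) hp)) hcp
        have hb := (S.commute_iff (hq c) hp).1 heq.symm
        rwa [pe, Bp_iot_right] at hb
      rw [← split_vec (S.pr (q c)), h0, h1, iot_zero, add_zero]
    rcases S.pr_ker _ (hq c) key with e | e
    · exact Or.inl (Subtype.ext (by rw [← qe c, e, pm_one]; rfl))
    · exact Or.inr (Subtype.ext (by rw [← qe c, e]))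
  · intro a b
    have e : (⁅a, b⁆ : ↥(QM z x)).1 = pm x (q a * q b * (q a)⁻¹ * (q b)⁻¹) := by
      rw [commutatorElement_def, Subgroup.coe_mul, Subgroup.coe_mul, Subgroup.coe_mul, Subgroup.coe_inv,
        Subgroup.coe_inv, ← qe a, ← qe b, ← pm_inv (mem_Cy.2 (qx a)), ← pm_inv (mem_Cy.2 (qx b)),
        ← pm_mul (mem_Cy.2 (qx a)) (mem_Cy.2 (qx b)),
        ← pm_mul (mul_mem (mem_Cy.2 (qx a)) (mem_Cy.2 (qx b))) (inv_mem (mem_Cy.2 (qx a))),
        ← pm_mul (mul_mem (mul_mem (mem_Cy.2 (qx a)) (mem_Cy.2 (qx b))) (inv_mem (mem_Cy.2 (qx a))))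
          (inv_mem (mem_Cy.2 (qx b)))]
    rw [S.commutator_eq (hq a) (hq b), pm_zp h] at e
    rcases CoOneType.zmod_cases (CoOneType.Bp (S.pr (q a)) (S.pr (q b))) with e' | e' <;> rw [e'] at e
    · exact Or.inl (Subtype.ext (e.trans (SuzType.zp_zero _)))
    · exact Or.inr (Subtype.ext (e.trans (SuzType.zp_one _)))
  · intro a
    have e : (a * a : ↥(QM z x)).1 = pm x (q a * q a) := by
      rw [Subgroup.coe_mul, ← qe a, ← pm_mul (mem_Cy.2 (qx a)) (mem_Cy.2 (qx a))]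
    rw [S.pr_sq _ (hq a), pm_zp h] at e
    rcases CoOneType.zmod_cases (qP 4 (S.pr (q a))) with e' | e' <;> rw [e'] at e
    · exact Or.inl (Subtype.ext (e.trans (SuzType.zp_zero _)))
    · exact Or.inr (Subtype.ext (e.trans (SuzType.zp_one _)))
  · obtain ⟨a, ha, ax, ae⟩ := exists_fixed h (d6 1)
    obtain ⟨b, hb, bx, be⟩ := exists_fixed h (d6 4)
    refine ⟨⟨pm x a, mem_QM.2 ⟨a, ha, ax, rfl⟩⟩, ⟨pm x b, mem_QM.2 ⟨b, hb, bx, rfl⟩⟩, fun e => ?_⟩
    have e' := congrArg Subtype.val e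
    simp only [Subgroup.coe_mul] at e'
    rw [← pm_mul (mem_Cy.2 ax) (mem_Cy.2 bx), ← pm_mul (mem_Cy.2 bx) (mem_Cy.2 ax)] at e'
    have := (S.commute_iff ha hb).1 (two_part_eq h (mul_mem (mem_Cy.2 ax) (mem_Cy.2 bx))
      (mul_mem (mem_Cy.2 bx) (mem_Cy.2 ax)) (pow_four S (mul_mem ha hb)) (pow_four S (mul_mem hb ha)) e')
    rw [ae, be, Bp_iot, SuzType.Bp_dc (by norm_num) (by norm_num)] at this
    exact absurd this (by decide +kernel)

theorem QM_card : Nat.card ↥(QM z x) = 2 ^ 7 := by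
  have hc := card_cent_oc S h.yz h.y3
  rw [h.act, fix_card h] at hc
  rw [show (2 : ℕ) ^ 7 = 2 * 64 by norm_num, ← hc]
  symm
  refine Nat.card_congr (Equiv.ofBijective
    (fun a => ⟨pm x a.1, mem_QM.2 ⟨a.1, a.2.1, Subgroup.mem_centralizer_singleton_iff.1 a.2.2, rfl⟩⟩) ⟨?_, ?_⟩)
  · intro a b e
    exact Subtype.ext (two_part_eq h a.2.2 b.2.2 (pow_four S a.2.1) (pow_four S b.2.1) (congrArg Subtype.val e))
  · rintro ⟨m, hm⟩
    obtain ⟨q, hq, qx, e⟩ := mem_QM.1 hm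
    exact ⟨⟨q, hq, Subgroup.mem_centralizer_singleton_iff.2 qx⟩, Subtype.ext e⟩

omit h in
/-- The projection of an element of the quotient. -/
noncomputable def prM (S : CoOne z) (x : G) (m : My x) : V6 :=
  haveI := Classical.propDecidable (∃ q ∈ oc z, q * x = x * q ∧ pm x q = m)
  if hq : ∃ q ∈ oc z, q * x = x * q ∧ pm x q = m then prj (S.pr hq.choose) else 0

theorem prM_eq {q : G} (hq : q ∈ oc z) (qx : q * x = x * q) : prM S x (pm x q) = prj (S.pr q) := by
  have hex : ∃ a ∈ oc z, a * x = x * a ∧ pm x a = pm x q := ⟨q, hq, qx, rfl⟩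
  obtain ⟨a1, a2, a3⟩ := hex.choose_spec
  rw [prM, dif_pos hex, two_part_eq h (mem_Cy.2 a2) (mem_Cy.2 qx) (pow_four S a1) (pow_four S hq) a3]

/-- The action in the quotient. -/
noncomputable def actM (m : My x) : O6 :=
  haveI := Classical.propDecidable (m * pm x z = pm x z * m)
  if hm : m * pm x z = pm x z * m then psi h ⟨m, Subgroup.mem_centralizer_singleton_iff.2 hm⟩ else 1

theorem actM_eq {c : G} (cz : c * z = z * c) (cx : c * x = x * c) : actM h (pm x c) = hp S c := by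
  have hm : pm x c * pm x z = pm x z * pm x c := by
    rw [← pm_mul (mem_Cy.2 cx) (z_Cy h), ← pm_mul (z_Cy h) (mem_Cy.2 cx), cz]
  rw [actM, dif_pos hm]
  exact psi_eq h _ cz cx rfl

/-- The setting of Suzuki type in the quotient. -/
theorem exists_suz : ∃ T : SuzType.Suz (pm x z), ∀ c, c * z = z * c → c * x = x * c → T.act (pm x c) = hp S c := by
  have hoc := oc_eq h
  refine ⟨{ sett := ?_, card := by rw [hoc]; exact QM_card h, pr := prM S x, pr_mul := ?_, pr_ker := ?_,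
            pr_z := ?_, pr_surj := ?_, pr_sq := ?_, act := actM h, act_spec := ?_, act_even := ?_,
            act_surj := ?_, act_ker := ?_, nwc := ?_ }, fun c cz cx => actM_eq h cz cx⟩
  · refine ⟨zb_ord h, by rw [hoc]; exact QM_es h, fun m hm => ?_⟩
    rw [hoc] at hm ⊢
    exact cent_QM h (Subgroup.mem_centralizer_iff.1 hm)
  · intro a ha b hb
    rw [hoc, mem_QM] at ha hb
    obtain ⟨p, hp, px, rfl⟩ := ha
    obtain ⟨q, hq, qx, rfl⟩ := hb
    rw [← pm_mul (mem_Cy.2 px) (mem_Cy.2 qx), prM_eq h (mul_mem hp hq) (Commute.mul_left px qx).eq, prM_eq h hp px,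
      prM_eq h hq qx, S.pr_mul p hp q hq, prj_add]
  · intro a ha e
    rw [hoc, mem_QM] at ha
    obtain ⟨p, hp, px, rfl⟩ := ha
    rw [prM_eq h hp px] at e
    have h0 : S.pr p = 0 := by rw [← split_vec (S.pr p), fixed_prP h hp px, e, iot_zero, add_zero]
    rcases S.pr_ker p hp h0 with rfl | rfl
    · exact Or.inl (pm_one x)
    · exact Or.inr rfl
  · rw [prM_eq h S.zmem h.yz.symm, S.pr_z, prj_zero]
  · intro u
    obtain ⟨q, hq, qx, e⟩ := exists_fixed h u
    exact ⟨pm x q, hoc ▸ mem_QM.2 ⟨q, hq, qx, rfl⟩, by rw [prM_eq h hq qx, e, prj_iot]⟩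
  · intro a ha
    rw [hoc, mem_QM] at ha
    obtain ⟨p, hp, px, rfl⟩ := ha
    rw [prM_eq h hp px, ← pm_mul (mem_Cy.2 px) (mem_Cy.2 px), S.pr_sq p hp, pm_zp h]
    congr 1
    rw [← q_iot, (prP_zero_iff _).1 (fixed_prP h hp px)]
  · intro m hm a ha
    rw [hoc, mem_QM] at ha
    obtain ⟨p, hp, px, rfl⟩ := ha
    obtain ⟨c, cC, cz, rfl⟩ := lift_cent h hm
    have pC := mem_Cy.2 px
    rw [← pm_inv cC, ← pm_mul cC pC, ← pm_mul (mul_mem cC pC) (inv_mem cC),
      prM_eq h (S.nrm cz hp) (mem_Cy.1 (mul_mem (mul_mem cC pC) (inv_mem cC))), S.act_spec c cz p hp,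
      prj_act h cz (mem_Cy.1 cC), prM_eq h hp px, actM_eq h cz (mem_Cy.1 cC)]
  · intro m hm
    obtain ⟨c, cC, cz, rfl⟩ := lift_cent h hm
    rw [actM_eq h cz (mem_Cy.1 cC)]
    exact (hp_spec h cz (mem_Cy.1 cC)).1
  · intro g hg
    obtain ⟨c, cz, cx, e⟩ := exists_hp h hg
    refine ⟨pm x c, ?_, (actM_eq h cz cx).trans e⟩
    rw [← pm_mul (mem_Cy.2 cx) (z_Cy h), ← pm_mul (z_Cy h) (mem_Cy.2 cx), cz]
  · intro m hm e
    obtain ⟨c, cC, cz, rfl⟩ := lift_cent h hm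
    rw [actM_eq h cz (mem_Cy.1 cC)] at e
    exact hoc ▸ hp_ker h cz (mem_Cy.1 cC) e
  · obtain ⟨w, n, Fw, xw, hn, nx⟩ := exists_move h
    have hnC := mem_Cy.2 nx
    have e : pm x n * pm x z * (pm x n)⁻¹ = pm x w := by
      rw [← pm_inv hnC, ← pm_mul hnC (z_Cy h), ← pm_mul (mul_mem hnC (z_Cy h)) (inv_mem hnC), hn]
    refine ⟨pm x n, ?_, ?_⟩
    · rw [e, hoc]
      exact mem_QM.2 ⟨w, Fw.mem, xw.symm, rfl⟩
    · rw [e]
      exact fun e' => CoOneType.CoOne.w_ne_z Fw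
        (two_part_eq h (mem_Cy.2 xw.symm) (z_Cy h) (pow_four S Fw.mem) (z_four h) e')

end Cfsg.Agent.CoOneThree
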