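import Cfsg.Agent.CoOneThree.Codes
import Cfsg.Agent.CoOneType.Norm
import Cfsg.Agent.SuzType.Space

/-!
Rotations of anisotropic planes in the hyperbolic space of dimension eight.
-/

set_option autoImplicit false
set_option linter.all false
set_option maxRecDepth 100000
set_option maxHeartbeats 1000000

open Cfsg.Agent.ThreeTrans.OrthCohom Cfsg.Agent.Classical.Quad QuadraticMap Module

namespace Cfsg.Agent.CoOneThree

abbrev V8 : Type := CoOneType.V
abbrev V6 : Type := SuzType.V
abbrev O8 : Type := CoOneType.O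
abbrev O6 : Type := SuzType.O
local notation "d8" => Cfsg.Agent.CoOneType.dc
local notation "d6" => Cfsg.Agent.SuzType.dc

theorem six_spec {i : ℕ} (hi : i < 64) : emb i < 256 ∧ pj (emb i) = i ∧
    (∀ p ∈ planeL, CoOneType.qn (emb i ^^^ p) = (SuzType.qn i != CoOneType.qn p)) ∧
    ∀ j, j < 64 → emb (i ^^^ j) = emb i ^^^ emb j := by
  have t := List.all_eq_true.1 six_tables i (List.mem_range.2 hi)
  simp only [Bool.and_eq_true, List.all_eq_true, beq_iff_eq] at t
  obtain ⟨⟨⟨a, b⟩, c⟩, d⟩ := t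
  exact ⟨Nat.ble_eq.mp a, b, c, fun j hj => d j (List.mem_range.2 hj)⟩

theorem eight_spec {v : ℕ} (hv : v < 256) : pj v < 64 ∧ pp v ∈ planeL ∧ pj (r8 v) = pj v ∧
    (r8 v = v ↔ pp v = 0) ∧ r8 (r8 (r8 v)) = v ∧ r8 v < 256 ∧ t8 v < 256 ∧ t8 (r8 v) = r8 (r8 (t8 v)) := by
  have t := List.all_eq_true.1 eight_tables v (List.mem_range.2 hv)
  simp only [Bool.and_eq_true, beq_iff_eq, List.contains_iff_mem] at t
  obtain ⟨⟨⟨⟨⟨⟨⟨a, b⟩, c⟩, d⟩, e⟩, f⟩, g⟩, h⟩ := t
  refine ⟨Nat.ble_eq.mp a, b, c, ?_, e, Nat.ble_eq.mp f, Nat.ble_eq.mp g, h⟩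
  rw [← beq_iff_eq (a := r8 v), d, beq_iff_eq]

theorem planeL_lt : ∀ p ∈ planeL, p < 256 := by decide

theorem planeL_pj : ∀ p ∈ planeL, pj p = 0 := by decide +kernel

theorem emb_zero : emb 0 = 0 := by decide +kernel

theorem bz_eq (b : Bool) : CoOneType.bz b = SuzType.bz b := rfl

theorem d6_ite (b : Bool) (m : ℕ) : CoOneType.bz b • d6 m = d6 (if b then m else 0) := by
  rcases b with _ | _
  · rw [show CoOneType.bz false = 0 from rfl, zero_smul, if_neg Bool.false_ne_true]
    exact SuzType.dc_zero.symm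
  · rw [show CoOneType.bz true = 1 from rfl, one_smul, if_pos rfl]

/-- The projection of a vector. -/
noncomputable def prj (x : V8) : V6 := d6 (pj (CoOneType.cd x).val)

theorem prj_eq (x : V8) : prj x =
    ((CoOneType.Bp x (d8 16) • d6 1 + CoOneType.Bp x (d8 32) • d6 2) +
      (CoOneType.Bp x (d8 1) • d6 4 + CoOneType.Bp x (d8 2) • d6 8)) +
      (CoOneType.Bp x (d8 76) • d6 16 + CoOneType.Bp x (d8 136) • d6 32) := by
  have h : ∀ m, m < 256 → CoOneType.Bp x (d8 m) = CoOneType.bz (CoOneType.Bn (CoOneType.cd x).val m) := fun m hm => by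
    rw [← CoOneType.Bp_dc (CoOneType.cd x).isLt hm, CoOneType.dc_cd]
  rw [h 16 (by norm_num), h 32 (by norm_num), h 1 (by norm_num), h 2 (by norm_num), h 76 (by norm_num),
    h 136 (by norm_num), d6_ite, d6_ite, d6_ite, d6_ite, d6_ite, d6_ite]
  simp only [prj, pj, SuzType.dc, dec_xor]

theorem prj_add (x y : V8) : prj (x + y) = prj x + prj y := by
  simp only [prj_eq, CoOneType.Bp_add_left, add_smul]
  abel

theorem prj_zero : prj 0 = 0 := by
  have h := prj_add 0 0
  rw [add_zero] at h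
  exact add_eq_left.1 h.symm

theorem prj_dc {v : ℕ} (hv : v < 256) : prj (d8 v) = d6 (pj v) := by
  rw [prj, show CoOneType.cd (d8 v) = ⟨v, hv⟩ from CoOneType.cd_dc ⟨v, hv⟩]

/-- The embedding of a vector. -/
noncomputable def iot (u : V6) : V8 := d8 (emb (SuzType.cd u).val)

theorem iot_dc {i : ℕ} (hi : i < 64) : iot (d6 i) = d8 (emb i) := by
  rw [iot, show SuzType.cd (d6 i) = ⟨i, hi⟩ from SuzType.cd_dc ⟨i, hi⟩]

theorem iot_add (u w : V6) : iot (u + w) = iot u + iot w := by
  conv_lhs => rw [← SuzType.dc_cd u, ← SuzType.dc_cd w, ← SuzType.dc_xor (SuzType.cd u).isLt (SuzType.cd w).isLt]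
  rw [iot_dc (SuzType.xor_lt (SuzType.cd u).isLt (SuzType.cd w).isLt),
    (six_spec (SuzType.cd u).isLt).2.2.2 _ (SuzType.cd w).isLt]
  exact CoOneType.dc_xor _ _

theorem iot_zero : iot 0 = 0 := by
  have h := iot_add 0 0
  rw [add_zero] at h
  exact add_eq_left.1 h.symm

theorem prj_iot (u : V6) : prj (iot u) = u := by
  rw [iot, prj_dc (six_spec (SuzType.cd u).isLt).1, (six_spec (SuzType.cd u).isLt).2.1]
  exact SuzType.dc_cd u

/-- The component in the plane. -/
noncomputable def prP (x : V8) : V8 := x + iot (prj x)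

theorem prP_add (x y : V8) : prP (x + y) = prP x + prP y := by
  simp only [prP, prj_add, iot_add]
  abel

theorem split_vec (x : V8) : iot (prj x) + prP x = x := by
  rw [prP, add_left_comm, CoOneType.v_add_self, add_zero]

theorem prP_iot (u : V6) : prP (iot u) = 0 := by rw [prP, prj_iot, CoOneType.v_add_self]

theorem prj_prP (x : V8) : prj (prP x) = 0 := by rw [prP, prj_add, prj_iot, SuzType.v_add_self]

theorem prP_code (x : V8) : ∃ p ∈ planeL, p = pp (CoOneType.cd x).val ∧ prP x = d8 p := by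
  refine ⟨_, (eight_spec (CoOneType.cd x).isLt).2.1, rfl, ?_⟩
  rw [prP, prj, iot_dc (eight_spec (CoOneType.cd x).isLt).1]
  conv_lhs => arg 1; rw [← CoOneType.dc_cd x]
  exact (CoOneType.dc_xor _ _).symm

theorem prP_zero_iff (x : V8) : prP x = 0 ↔ iot (prj x) = x := by
  constructor
  · intro h
    have := split_vec x
    rwa [h, add_zero] at this
  · intro h
    rw [← h, prP_iot]

theorem bz_ne : ∀ a b : Bool, CoOneType.bz (a != b) = CoOneType.bz a + CoOneType.bz b := by decide

theorem q_sum (u : V6) (x : V8) : qP 4 (iot u + prP x) = qM 2 u + qP 4 (prP x) := by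
  obtain ⟨p, hp, -, e⟩ := prP_code x
  rw [e, iot, ← CoOneType.dc_xor, CoOneType.q_dc (CoOneType.xor_lt (six_spec (SuzType.cd u).isLt).1 (planeL_lt p hp)),
    (six_spec (SuzType.cd u).isLt).2.2.1 p hp, CoOneType.q_dc (planeL_lt p hp), bz_ne, bz_eq]
  conv_rhs => arg 1; rw [← SuzType.dc_cd u, SuzType.q_dc (SuzType.cd u).isLt]

theorem q_iot (u : V6) : qP 4 (iot u) = qM 2 u := by
  have h := q_sum u 0
  have h0 : prP 0 = 0 := by rw [prP, prj_zero, iot_zero, add_zero]
  rwa [h0, add_zero, QuadraticMap.map_zero, add_zero] at h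

theorem Bp_iot_prP (u : V6) (x : V8) : CoOneType.Bp (iot u) (prP x) = 0 := by
  have h := CoOneType.q_add (iot u) (prP x)
  rw [q_sum, q_iot] at h
  exact add_eq_left.1 h.symm

theorem Bp_iot (u w : V6) : CoOneType.Bp (iot u) (iot w) = SuzType.Bp u w := by
  show qP 4 (iot u + iot w) - qP 4 (iot u) - qP 4 (iot w) = qM 2 (u + w) - qM 2 u - qM 2 w
  rw [← iot_add, q_iot, q_iot, q_iot]

theorem Bp_iot_right (x : V8) (u : V6) : CoOneType.Bp x (iot u) = SuzType.Bp (prj x) u := by
  conv_lhs => rw [← split_vec x]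
  rw [CoOneType.Bp_add_left, Bp_iot, CoOneType.Bp_comm (prP x), Bp_iot_prP, add_zero]

/-- The extension of a map of the six-dimensional space. -/
noncomputable def extF (h : O6) (x : V8) : V8 := iot (h.1 (prj x)) + prP x

theorem prj_extF (h : O6) (x : V8) : prj (extF h x) = h.1 (prj x) := by
  rw [extF, prj_add, prj_iot, prj_prP, add_zero]

theorem prP_extF (h : O6) (x : V8) : prP (extF h x) = prP x := by
  rw [extF, prP_add, prP_iot, zero_add, prP, prj_prP, iot_zero, add_zero]

theorem extF_mul (g h : O6) (x : V8) : extF g (extF h x) = extF (g * h) x := by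
  rw [extF, prj_extF, prP_extF, extF, oG_mul_apply]

theorem extF_one (x : V8) : extF 1 x = x := by rw [extF, oG_one_apply, split_vec]

theorem extF_q (h : O6) (x : V8) : qP 4 (extF h x) = qP 4 x := by
  rw [extF, q_sum, h.2 (prj x), ← q_sum, split_vec]

/-- The extension of an isometry. -/
noncomputable def ext : O6 →* O8 :=
  MonoidHom.mk' (fun h =>
    ⟨{ toFun := extF h
       map_add' := fun x y => by
         simp only [extF, prj_add, map_add, iot_add, prP_add]; abel
       map_smul' := fun c x => by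
         rcases CoOneType.zmod_cases c with rfl | rfl
         · simp only [zero_smul, RingHom.id_apply]
           rw [extF, prj_zero, map_zero, iot_zero, zero_add, prP, prj_zero, iot_zero, add_zero]
         · simp only [one_smul, RingHom.id_apply]
       invFun := extF h⁻¹
       left_inv := fun x => by
         show extF h⁻¹ (extF h x) = x
         rw [extF_mul, inv_mul_cancel, extF_one]
       right_inv := fun x => by
         show extF h (extF h⁻¹ x) = x
         rw [extF_mul, mul_inv_cancel, extF_one] }, fun x => extF_q h x⟩)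
    fun g h => ext_oG fun x => (extF_mul g h x).symm

theorem ext_apply (h : O6) (x : V8) : (ext h).1 x = iot (h.1 (prj x)) + prP x := rfl

theorem ext_iot (h : O6) (u : V6) : (ext h).1 (iot u) = iot (h.1 u) := by
  rw [ext_apply, prj_iot, prP_iot, add_zero]

theorem ext_inj {g h : O6} (e : ext g = ext h) : g = h := ext_oG fun u => by
  rw [← prj_iot (g.1 u), ← ext_iot, e, ext_iot, prj_iot]

theorem dsign_mul8 (g h : O8) : dsign (g * h) = dsign g * dsign h :=
  dsign_mul nondegP4 (Or.inr (by simp)) g h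

theorem dsign_mul6 (g h : O6) : dsign (g * h) = dsign g * dsign h :=
  dsign_mul nondegM2 (Or.inr (by simp)) g h

theorem dsign_inv8 {g : O8} (hg : dsign g = 1) : dsign g⁻¹ = 1 := by
  have h := dsign_mul8 g⁻¹ g
  rw [inv_mul_cancel, dsign_one, hg, mul_one] at h
  exact h.symm

theorem dsign_inv6 {g : O6} (hg : dsign g = 1) : dsign g⁻¹ = 1 := by
  have h := dsign_mul6 g⁻¹ g
  rw [inv_mul_cancel, dsign_one, hg, mul_one] at h
  exact h.symm

theorem dsign_pow8 {g : O8} (hg : dsign g = 1) : ∀ n : ℕ, dsign (g ^ n) = 1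
  | 0 => by rw [pow_zero]; exact dsign_one
  | n + 1 => by rw [pow_succ, dsign_mul8, dsign_pow8 hg n, hg, one_mul]

theorem dsign_ext (h : O6) : dsign (ext h) = dsign h := by
  let f₁ : O6 →* ℤˣ := MonoidHom.mk' (fun h => dsign (ext h)) fun a b => by rw [map_mul, dsign_mul8]
  let f₂ : O6 →* ℤˣ := MonoidHom.mk' dsign dsign_mul6
  refine DFunLike.congr_fun (MonoidHom.eq_of_eqOn_dense (f := f₁) (g := f₂) reflM2 ?_) h
  rintro _ ⟨a, ha, rfl⟩
  have ha1 : qM 2 a = 1 := CoOneType.zmod_ne_zero _ ha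
  have hq : qP 4 (iot a) ≠ 0 := by rw [q_iot, ha1]; exact one_ne_zero
  have e : ext (rO ha) = rO hq := ext_oG fun x => by
    rw [ext_apply, rO_apply, rO_apply, q_iot, ha1, div_one, div_one, SuzType.v_sub_eq_add,
      CoOneType.v_sub_eq_add, show polar (qP 4) x (iot a) = polar (qM 2) (prj x) a from Bp_iot_right x a, iot_add]
    rcases CoOneType.zmod_cases (polar (qM 2) (prj x) a) with e | e <;> rw [e]
    · rw [zero_smul, zero_smul, iot_zero, add_zero, add_zero, split_vec]
    · rw [one_smul, one_smul, add_right_comm, split_vec]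
  show dsign (ext (rO ha)) = dsign (rO ha)
  rw [e, ← one_mul (rO hq), dsign_mul_rO nondegP4, ← one_mul (rO ha), dsign_mul_rO nondegM2, dsign_one, dsign_one]

/-- The code map of an isometry. -/
def IsCode (g : O8) (f : ℕ → ℕ) : Prop := ∀ v, v < 256 → f v < 256 ∧ g.1 (d8 v) = d8 (f v)

theorem IsCode.eq {g h : O8} {f : ℕ → ℕ} (hg : IsCode g f) (hh : IsCode h f) : g = h := by
  refine ext_oG fun x => ?_
  rw [← CoOneType.dc_cd x, (hg _ (CoOneType.cd x).isLt).2, (hh _ (CoOneType.cd x).isLt).2]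

theorem IsCode.one : IsCode (1 : O8) id := fun v hv => ⟨hv, by rw [oG_one_apply]; rfl⟩

theorem IsCode.mul {g h : O8} {f e : ℕ → ℕ} (hg : IsCode g f) (hh : IsCode h e) : IsCode (g * h) (f ∘ e) :=
  fun v hv => ⟨(hg _ (hh v hv).1).1, by rw [oG_mul_apply, (hh v hv).2, (hg _ (hh v hv).1).2]; rfl⟩

theorem IsCode.pow {g : O8} {f : ℕ → ℕ} (hg : IsCode g f) : ∀ n : ℕ, IsCode (g ^ n) (f^[n])
  | 0 => by rw [pow_zero]; exact IsCode.one
  | n + 1 => by rw [pow_succ, Function.iterate_succ]; exact (IsCode.pow hg n).mul hg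

theorem IsCode.congr {g : O8} {f e : ℕ → ℕ} (hg : IsCode g f) (h : ∀ v, v < 256 → f v = e v) : IsCode g e :=
  fun v hv => h v hv ▸ hg v hv

theorem exists_pair_code {a b : ℕ} (ha : a < 256) (hb : b < 256) (hqa : CoOneType.qn a = true)
    (hqb : CoOneType.qn b = true) : ∃ g : O8, dsign g = 1 ∧ IsCode g (CoOneType.g2n a b) := by
  obtain ⟨g, h1, h2⟩ := CoOneType.exists_rrn ha hb hqa hqb
  exact ⟨g, h1, fun v hv => ⟨CoOneType.g2n_lt ha hb hv, h2 v hv⟩⟩

theorem r8_exist : (∃ g : O8, dsign g = 1 ∧ IsCode g r8) ∧ ∃ g : O8, dsign g = 1 ∧ IsCode g t8 :=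
  ⟨exists_pair_code (a := 140) (b := 68) (by norm_num) (by norm_num) (by decide) (by decide),
    exists_pair_code (a := 68) (b := 136) (by norm_num) (by norm_num) (by decide) (by decide)⟩

/-- The rotation. -/
noncomputable def R8 : O8 := r8_exist.1.choose
/-- The isometry inverting it. -/
noncomputable def T8 : O8 := r8_exist.2.choose

theorem R8_spec : dsign R8 = 1 ∧ IsCode R8 r8 := r8_exist.1.choose_spec
theorem T8_spec : dsign T8 = 1 ∧ IsCode T8 t8 := r8_exist.2.choose_spec

theorem R8_three : R8 ^ 3 = 1 :=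
  IsCode.eq ((R8_spec.2.pow 3).congr fun v hv => show r8 (r8 (r8 v)) = v from (eight_spec hv).2.2.2.2.1) IsCode.one

theorem T8_R8 : T8 * R8 = R8 ^ 2 * T8 :=
  IsCode.eq ((T8_spec.2.mul R8_spec.2).congr fun v hv => (eight_spec hv).2.2.2.2.2.2.2)
    ((R8_spec.2.pow 2).mul T8_spec.2)

theorem R8_dc {v : ℕ} (hv : v < 256) : R8.1 (d8 v) = d8 (r8 v) := (R8_spec.2 v hv).2

theorem prj_R8 (x : V8) : prj (R8.1 x) = prj x := by
  have h := eight_spec (CoOneType.cd x).isLt
  conv_lhs => rw [← CoOneType.dc_cd x, R8_dc (CoOneType.cd x).isLt, prj_dc h.2.2.2.2.2.1, h.2.2.1]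
  rfl

theorem fix_R8 (x : V8) : R8.1 x = x ↔ prP x = 0 := by
  obtain ⟨p, hp, hpe, e⟩ := prP_code x
  have h := eight_spec (CoOneType.cd x).isLt
  rw [e]
  conv_lhs => rw [← CoOneType.dc_cd x, R8_dc (CoOneType.cd x).isLt]
  constructor
  · intro e'
    rw [hpe, h.2.2.2.1.1 (CoOneType.dc_inj h.2.2.2.2.2.1 (CoOneType.cd x).isLt e'), CoOneType.dc_zero]
  · intro e'
    have : pp (CoOneType.cd x).val = 0 :=
      hpe ▸ CoOneType.dc_inj (planeL_lt p hp) (by norm_num) (e'.trans CoOneType.dc_zero.symm)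
    rw [h.2.2.2.1.2 this]

theorem R8_iot (u : V6) : R8.1 (iot u) = iot u := (fix_R8 _).2 (prP_iot u)

theorem R8_pow_iot (u : V6) : ∀ n : ℕ, (R8 ^ n).1 (iot u) = iot u
  | 0 => by rw [pow_zero, oG_one_apply]
  | n + 1 => by rw [pow_succ, oG_mul_apply, R8_iot, R8_pow_iot u n]

theorem prj_R8_pow (x : V8) : ∀ n : ℕ, prj ((R8 ^ n).1 x) = prj x
  | 0 => by rw [pow_zero, oG_one_apply]
  | n + 1 => by rw [pow_succ', oG_mul_apply, prj_R8, prj_R8_pow x n]

theorem prP_R8 (x : V8) : prP (R8.1 x) = R8.1 (prP x) := by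
  rw [prP, prj_R8, prP, map_add, R8_iot]

theorem ext_comm (h : O6) : Commute R8 (ext h) := by
  refine ext_oG fun x => ?_
  rw [oG_mul_apply, oG_mul_apply, ext_apply, ext_apply, map_add, R8_iot, prj_R8, prP_R8]

/-- Action on the fixed space of an element commuting with the rotation. -/
noncomputable def hFun (g : O8) (u : V6) : V6 := prj (g.1 (iot u))

theorem hFun_spec {g : O8} (hc : Commute R8 g) (u : V6) : g.1 (iot u) = iot (hFun g u) := by
  refine ((prP_zero_iff _).1 ((fix_R8 _).1 ?_)).symm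
  rw [← oG_mul_apply, hc.eq, oG_mul_apply, R8_iot]

theorem hFun_inv {g : O8} (hc : Commute R8 g) (u : V6) : hFun g⁻¹ (hFun g u) = u := by
  rw [hFun, ← hFun_spec hc, ← oG_mul_apply, inv_mul_cancel, oG_one_apply, prj_iot]

theorem prj_perp {g : O8} (hc : Commute R8 g) {x : V8} (hx : prj x = 0) : prj (g.1 x) = 0 := by
  refine eq_zero_of_polar nondegM2 fun u => ?_
  show SuzType.Bp (prj (g.1 x)) u = 0
  rw [← Bp_iot_right, show iot u = g.1 (iot (hFun g⁻¹ u)) by
    rw [← hFun_spec hc.inv_right, ← oG_mul_apply, mul_inv_cancel, oG_one_apply], CoOneType.polar_g, Bp_iot_right, hx]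
  exact polar_zero_left _ _

theorem plane_orbit : ∀ p ∈ planeL, p ≠ 0 → ∃ i, i < 3 ∧ r8^[i] 68 = p := by decide +kernel

/-- The centraliser of the rotation. -/
theorem classify {g : O8} (hd : dsign g = 1) (hc : Commute R8 g) :
    ∃ h : O6, dsign h = 1 ∧ ∃ i, i < 3 ∧ g = ext h * R8 ^ i := by
  let h : O6 :=
    ⟨{ toFun := hFun g
       map_add' := fun u w => by simp only [hFun, iot_add, map_add, prj_add]
       map_smul' := fun c u => by
         rcases CoOneType.zmod_cases c with rfl | rfl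
         · simp only [zero_smul, RingHom.id_apply]; rw [hFun, iot_zero, map_zero, prj_zero]
         · simp only [one_smul, RingHom.id_apply]
       invFun := hFun g⁻¹
       left_inv := hFun_inv hc
       right_inv := fun u => by
         have := hFun_inv hc.inv_right u
         rwa [inv_inv] at this }, fun u => by
      show qM 2 (hFun g u) = qM 2 u
      rw [← q_iot, ← hFun_spec hc, g.2 (iot u), q_iot]⟩
  have hh : ∀ u, h.1 u = hFun g u := fun u => rfl
  have p68 : prj (d8 68) = 0 := by rw [prj_dc (by norm_num), planeL_pj 68 (by decide)]; exact SuzType.dc_zero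
  have hgp : prj (g.1 (d8 68)) = 0 := prj_perp hc p68
  obtain ⟨p, hp, -, e⟩ := prP_code (g.1 (d8 68))
  rw [prP, hgp, iot_zero, add_zero] at e
  obtain ⟨i, hi, hip⟩ := plane_orbit p hp fun e0 => by
    rw [e0, CoOneType.dc_zero, g.1.map_eq_zero_iff, ← CoOneType.dc_zero] at e
    exact absurd (CoOneType.dc_inj (by norm_num) (by norm_num) e) (by norm_num)
  obtain ⟨k, hk⟩ : ∃ k, k = (ext h * R8 ^ i)⁻¹ * g := ⟨_, rfl⟩
  have hcm : Commute R8 (ext h * R8 ^ i) := (ext_comm h).mul_right ((Commute.refl R8).pow_right i)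
  have kc : Commute R8 k := hk ▸ hcm.inv_right.mul_right hc
  have kiot : ∀ u, k.1 (iot u) = iot u := by
    intro u
    apply (ext h * R8 ^ i).1.injective
    rw [← oG_mul_apply, hk, mul_inv_cancel_left, oG_mul_apply, R8_pow_iot, ext_iot, hh, hFun_spec hc]
  have k68 : k.1 (d8 68) = d8 68 := by
    apply (ext h * R8 ^ i).1.injective
    rw [← oG_mul_apply, hk, mul_inv_cancel_left, oG_mul_apply, ((R8_spec.2.pow i) 68 (by norm_num)).2, hip, e,
      ext_apply, prj_dc (planeL_lt p hp), planeL_pj p hp, show d6 0 = 0 from SuzType.dc_zero, map_zero, iot_zero,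
      zero_add, prP, prj_dc (planeL_lt p hp), planeL_pj p hp, show d6 0 = 0 from SuzType.dc_zero, iot_zero, add_zero]
  have kP : ∀ p ∈ planeL, k.1 (d8 p) = d8 p := by
    have e200 : k.1 (d8 200) = d8 200 := by
      rw [show (200 : ℕ) = r8 68 by decide +kernel, ← R8_dc (by norm_num), ← oG_mul_apply, ← kc.eq, oG_mul_apply, k68]
    have e140 : k.1 (d8 140) = d8 140 := by
      rw [show (140 : ℕ) = r8 200 by decide +kernel, ← R8_dc (by norm_num), ← oG_mul_apply, ← kc.eq, oG_mul_apply, e200]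
    intro p hp
    simp only [planeL, List.mem_cons, List.not_mem_nil, or_false] at hp
    rcases hp with rfl | rfl | rfl | rfl
    · rw [CoOneType.dc_zero, map_zero]
    exacts [k68, e140, e200]
  have k1 : k = 1 := ext_oG fun x => by
    obtain ⟨p, hp, -, e⟩ := prP_code x
    rw [oG_one_apply, ← split_vec x, map_add, kiot, e, kP p hp]
  rw [k1, eq_comm, inv_mul_eq_one] at hk
  refine ⟨h, ?_, i, hi, hk.symm⟩
  rw [← hk, dsign_mul8, dsign_pow8 R8_spec.1, mul_one, dsign_ext] at hd
  exact hd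

theorem hFun_ext (h : O6) (i : ℕ) (u : V6) : hFun (ext h * R8 ^ i) u = h.1 u := by
  rw [hFun, oG_mul_apply, R8_pow_iot, ext_iot, prj_iot]

theorem prj_ext (h : O6) (i : ℕ) (x : V8) : prj ((ext h * R8 ^ i).1 x) = h.1 (prj x) := by
  rw [oG_mul_apply, ext_apply, prj_add, prj_iot, prj_prP, add_zero, prj_R8_pow]

theorem R8_pow_ne : ∀ i, i < 3 → R8 ^ i = 1 → i = 0 := by
  intro i hi e
  have h := ((R8_spec.2.pow i) 68 (by norm_num))
  rw [e, oG_one_apply] at h
  have e1 := CoOneType.dc_inj (by norm_num) h.1 h.2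
  revert e1
  interval_cases i <;> decide +kernel

theorem ext_R8_unique {h h' : O6} {i j : ℕ} (hi : i < 3) (hj : j < 3) (e : ext h * R8 ^ i = ext h' * R8 ^ j) :
    h = h' ∧ i = j := by
  have hh : h = h' := ext_oG fun u => by rw [← hFun_ext h i, e, hFun_ext]
  refine ⟨hh, ?_⟩
  rw [hh, mul_right_inj] at e
  rcases Nat.le_total i j with l | l
  · have := R8_pow_ne (j - i) (by omega) (mul_left_cancel (a := R8 ^ i) (by
      rw [← pow_add, Nat.add_sub_cancel' l, mul_one, e]))
    omega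
  · have := R8_pow_ne (i - j) (by omega) (mul_left_cancel (a := R8 ^ j) (by
      rw [← pow_add, Nat.add_sub_cancel' l, mul_one, e]))
    omega

theorem wit_one_spec {v : ℕ} (hv : v < 256) (hq : CoOneType.qn v = true) :
    ∃ a b, a < 256 ∧ b < 256 ∧ CoOneType.qn a = true ∧ CoOneType.qn b = true ∧ CoOneType.g2n a b v = 68 := by
  have t := List.all_eq_true.1 wit_one v (List.mem_range.2 hv)
  simp only [hq, Bool.not_true, Bool.false_or, Bool.and_eq_true, beq_iff_eq] at t
  exact ⟨_, _, Nat.ble_eq.mp t.1.1.1, Nat.mod_lt _ (by norm_num), t.1.1.2, t.1.2, t.2⟩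

theorem wit_two_spec {v : ℕ} (hv : v < 256) (hq : CoOneType.qn v = true) (hb : CoOneType.Bn 68 v = true) :
    ∃ a b, a < 256 ∧ b < 256 ∧ CoOneType.qn a = true ∧ CoOneType.qn b = true ∧ CoOneType.g2n a b v = 200 ∧
      CoOneType.g2n a b 68 = 68 := by
  have t := List.all_eq_true.1 wit_two v (List.mem_range.2 hv)
  simp only [hq, hb, Bool.and_true, Bool.not_true, Bool.false_or, Bool.and_eq_true, beq_iff_eq] at t
  exact ⟨_, _, Nat.ble_eq.mp t.1.1.1.1.1.1, Nat.mod_lt _ (by norm_num), t.1.1.1.1.1.2, t.1.1.1.1.2, t.1.2, t.2⟩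

/-- Elements of order three with a large fixed space are rotations of one plane. -/
theorem normal_form (g : O8) (h3 : g ^ 3 = 1) (h1 : g ≠ 1) (hfix : 64 ≤ Nat.card {x : V8 // g.1 x = x}) :
    ∃ c : O8, dsign c = 1 ∧ c * g * c⁻¹ = R8 := by
  classical
  have hg3 : ∀ x, g.1 (g.1 (g.1 x)) = x := fun x => by
    rw [← oG_mul_apply, ← oG_mul_apply, show g * g * g = g ^ 3 by rw [pow_succ, pow_two], h3, oG_one_apply]
  let N : V8 →+ V8 := AddMonoidHom.mk' (fun x => g.1 x + x) fun a b => by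
    rw [map_add]; abel
  have hker : Nat.card N.ker = Nat.card {x : V8 // g.1 x = x} := Nat.card_congr (Equiv.subtypeEquivRight fun x => by
    show g.1 x + x = 0 ↔ g.1 x = x
    exact ⟨CoOneType.v_eq_of_add, fun e => by rw [e, CoOneType.v_add_self]⟩)
  have hrange : Nat.card N.range ≤ 4 := by
    have h := N.ker.card_mul_index
    rw [AddSubgroup.index_ker, hker, show Nat.card V8 = 256 by simp] at h
    nlinarith
  obtain ⟨u, hu⟩ : ∃ u, g.1 u ≠ u := by
    by_contra hc
    push Not at hc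
    exact h1 (ext_oG fun x => (hc x).trans (oG_one_apply x).symm)
  obtain ⟨w, hw⟩ : ∃ w, w = g.1 u + u := ⟨_, rfl⟩
  have w0 : w ≠ 0 := fun e => hu (CoOneType.v_eq_of_add (hw.symm.trans e))
  have wg : g.1 w ≠ w := fun e => by
    have e2 : g.1 (g.1 u) = u := by
      rw [hw, map_add, add_comm (g.1 u) u] at e
      exact add_right_cancel e
    exact hu ((congrArg g.1 e2).symm.trans (hg3 u))
  obtain ⟨w', hw'⟩ : ∃ w', w' = g.1 w := ⟨_, rfl⟩
  have sum : g.1 w' = w + w' := by
    rw [hw', hw, map_add, map_add, hg3]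
    rw [show g.1 u + u + (g.1 (g.1 u) + g.1 u) = (g.1 u + g.1 u) + (u + g.1 (g.1 u)) by abel,
      CoOneType.v_add_self, zero_add]
  have hmem : ∀ x, g.1 x + x ∈ ({0, w, w', w + w'} : Finset V8) := by
    let W : Finset V8 := {0, w, w', w + w'}
    have hW : W.card = 4 := by
      have a1 : (0 : V8) ≠ w := fun e => w0 e.symm
      have a2 : (0 : V8) ≠ w' := fun e => w0 (g.1.map_eq_zero_iff.1 (hw'.symm.trans e.symm))
      have a3 : w ≠ w' := fun e => wg (hw'.symm.trans e.symm)
      have a4 : (0 : V8) ≠ w + w' := fun e => a3 (CoOneType.v_eq_of_add e.symm)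
      have a5 : w ≠ w + w' := fun e => a2 (left_eq_add.1 e).symm
      have a6 : w' ≠ w + w' := fun e => a1 (right_eq_add.1 e).symm
      simp [W, a1, a2, a3, a4, a5, a6]
    have hsub : W ⊆ (N.range : Set V8).toFinset := by
      intro x hx
      have m1 : w ∈ N.range := ⟨u, hw.symm⟩
      have m2 : w' ∈ N.range := ⟨g.1 u, by show g.1 (g.1 u) + g.1 u = w'; rw [hw', hw, map_add]⟩
      simp only [W, Finset.mem_insert, Finset.mem_singleton] at hx
      rw [Set.mem_toFinset, SetLike.mem_coe]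
      rcases hx with rfl | rfl | rfl | rfl
      exacts [zero_mem _, m1, m2, add_mem m1 m2]
    have he := Finset.eq_of_subset_of_card_le hsub (by
      rw [hW, Set.toFinset_card, ← Nat.card_eq_fintype_card]; exact hrange)
    intro x
    show g.1 x + x ∈ W
    rw [he, Set.mem_toFinset, SetLike.mem_coe]
    exact ⟨x, rfl⟩
  have qgw : qP 4 w' = qP 4 w := by rw [hw']; exact g.2 w
  have hB : CoOneType.Bp w w' = qP 4 w := by
    have h := CoOneType.q_add w w'
    rw [show qP 4 (w + w') = qP 4 w by rw [← sum, g.2 w', qgw], qgw] at h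
    exact (h.trans (by rw [(by decide : ∀ a : ZMod 2, a + a = 0), zero_add])).symm
  have qw : qP 4 w = 1 := by
    by_contra hq
    have hq0 : qP 4 w = 0 := (CoOneType.zmod_cases _).resolve_right hq
    have hperp : ∀ x, CoOneType.Bp (g.1 x + x) w = 0 := fun x => by
      have hm := hmem x
      simp only [Finset.mem_insert, Finset.mem_singleton] at hm
      rcases hm with e | e | e | e <;> rw [e]
      · exact CoOneType.Bp_zero_left _
      · exact CoOneType.Bp_self _
      · rw [CoOneType.Bp_comm, hB, hq0]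
      · rw [CoOneType.Bp_add_left, CoOneType.Bp_self, CoOneType.Bp_comm, hB, hq0, add_zero]
    refine wg (CoOneType.v_eq_of_add (eq_zero_of_polar nondegP4 fun y => ?_))
    obtain ⟨x, rfl⟩ := g.1.surjective y
    have hx := hperp x
    rw [CoOneType.Bp_add_left, ← CoOneType.polar_g g x w, ← CoOneType.Bp_add_right] at hx
    show CoOneType.Bp (g.1 w + w) (g.1 x) = 0
    rw [CoOneType.Bp_comm, add_comm]
    exact hx
  -- move the plane
  have qi : CoOneType.qn (CoOneType.cd w).val = true := CoOneType.code_qn (b := true) (qw.trans rfl)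
  obtain ⟨a, b, ha, hb, qa, qb, hab⟩ := wit_one_spec (CoOneType.cd w).isLt qi
  obtain ⟨c₁, d₁, k₁⟩ := exists_pair_code ha hb qa qb
  have e1 : c₁.1 w = d8 68 := by
    conv_lhs => rw [← CoOneType.dc_cd w, (k₁ _ (CoOneType.cd w).isLt).2, hab]
  have qj : CoOneType.qn (CoOneType.cd (c₁.1 w')).val = true :=
    CoOneType.code_qn (b := true) ((c₁.2 w').trans (qgw.trans (qw.trans rfl)))
  have b68 : CoOneType.Bn 68 (CoOneType.cd (c₁.1 w')).val = true := by
    refine CoOneType.bz_true ?_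
    rw [← CoOneType.Bp_dc (by norm_num) (CoOneType.cd _).isLt, CoOneType.dc_cd, show CoOneType.dc 68 = d8 68 from rfl,
      ← e1, CoOneType.polar_g, hB, qw]
  obtain ⟨a', b', ha', hb', qa', qb', hab', h68⟩ := wit_two_spec (CoOneType.cd (c₁.1 w')).isLt qj b68
  obtain ⟨c₂, d₂, k₂⟩ := exists_pair_code ha' hb' qa' qb'
  refine ⟨c₂ * c₁, by rw [dsign_mul8, d₁, d₂, one_mul], ?_⟩
  obtain ⟨c, hc⟩ : ∃ c, c = c₂ * c₁ := ⟨_, rfl⟩
  have cw : c.1 w = d8 68 := by rw [hc, oG_mul_apply, e1, (k₂ 68 (by norm_num)).2, h68]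
  have cw' : c.1 w' = d8 200 := by
    rw [hc, oG_mul_apply]
    conv_lhs => rw [← CoOneType.dc_cd (c₁.1 w'), (k₂ _ (CoOneType.cd _).isLt).2, hab']
  rw [← hc]
  obtain ⟨g', hg'⟩ : ∃ g', g' = c * g * c⁻¹ := ⟨_, rfl⟩
  have conj : ∀ x, g'.1 (c.1 x) = c.1 (g.1 x) := fun x => by
    rw [hg', ← oG_mul_apply, inv_mul_cancel_right, oG_mul_apply]
  have g68 : g'.1 (d8 68) = d8 200 := by rw [← cw, conj, ← hw', cw']
  have g200 : g'.1 (d8 200) = d8 140 := by
    rw [← cw', conj, sum, map_add, cw, cw', ← CoOneType.dc_xor]; rfl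
  have g140 : g'.1 (d8 140) = d8 68 := by
    rw [show (140 : ℕ) = 68 ^^^ 200 from rfl, CoOneType.dc_xor, map_add, g68, g200, ← CoOneType.dc_xor]; rfl
  have giot : ∀ v, g'.1 (iot v) = iot v := by
    intro v
    have hp : ∀ p ∈ planeL, CoOneType.Bp (iot v) (d8 p) = 0 := by
      intro p hp
      rw [CoOneType.Bp_comm, Bp_iot_right, prj_dc (planeL_lt p hp), planeL_pj p hp]
      rw [show d6 0 = 0 from SuzType.dc_zero]
      exact polar_zero_left _ _
    have h68' : CoOneType.Bp (g'.1 (iot v) + iot v) (d8 68) = 0 := by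
      rw [CoOneType.Bp_add_left, hp 68 (by decide), add_zero]
      conv_lhs => arg 2; rw [← g140]
      rw [CoOneType.polar_g, hp 140 (by decide)]
    have h200' : CoOneType.Bp (g'.1 (iot v) + iot v) (d8 200) = 0 := by
      rw [CoOneType.Bp_add_left, hp 200 (by decide), add_zero]
      conv_lhs => arg 2; rw [← g68]
      rw [CoOneType.polar_g, hp 68 (by decide)]
    obtain ⟨x, hx⟩ := c.1.surjective (iot v)
    have hin : g'.1 (iot v) + iot v = c.1 (g.1 x + x) := by rw [map_add, ← hx, conj]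
    have hm := hmem x
    simp only [Finset.mem_insert, Finset.mem_singleton] at hm
    rw [hin] at h68' h200'
    rcases hm with e | e | e | e <;> rw [e] at h68' h200' hin
    · rw [map_zero] at hin
      exact CoOneType.v_eq_of_add hin
    all_goals exfalso
    · rw [cw, CoOneType.Bp_dc (by norm_num) (by norm_num)] at h200'
      exact absurd h200' (by decide +kernel)
    · rw [cw', CoOneType.Bp_dc (by norm_num) (by norm_num)] at h68'
      exact absurd h68' (by decide +kernel)
    · rw [map_add, cw, cw', ← CoOneType.dc_xor, CoOneType.Bp_dc (by decide) (by norm_num)] at h68'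
      exact absurd h68' (by decide +kernel)
  have gP : ∀ p ∈ planeL, g'.1 (d8 p) = R8.1 (d8 p) := by
    intro p hp
    rw [R8_dc (planeL_lt p hp)]
    simp only [planeL, List.mem_cons, List.not_mem_nil, or_false] at hp
    rcases hp with rfl | rfl | rfl | rfl
    · rw [CoOneType.dc_zero, map_zero, show r8 0 = 0 by decide +kernel]; exact CoOneType.dc_zero.symm
    · rw [g68, show r8 68 = 200 by decide +kernel]
    · rw [g140, show r8 140 = 68 by decide +kernel]
    · rw [g200, show r8 200 = 140 by decide +kernel]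
  rw [← hg']
  refine ext_oG fun x => ?_
  obtain ⟨p, hp, -, e⟩ := prP_code x
  rw [← split_vec x, map_add, map_add, giot, R8_iot, e, gP p hp]

end Cfsg.Agent.CoOneThree
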