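import Cfsg.Agent.CoOneThree.Rot
import Cfsg.Agent.CoOneType.Frame
import Cfsg.Agent.SuzThree.Three

/-!
Elements of order three in the centraliser of the involution.
-/

set_option autoImplicit false
set_option linter.all false
set_option maxRecDepth 100000
set_option maxHeartbeats 1000000

open Cfsg Cfsg.Agent.ThreeTrans.OrthCohom Cfsg.Agent.Classical.Quad QuadraticMap Cfsg.Agent.LargeExtra

namespace Cfsg.Agent.CoOneThree

open Cfsg.Agent.CoOneType (CoOne zp zp_zero zp_one zp_inj)
open Cfsg.Agent.SuzThree (fixed_point)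

local notation "d8" => Cfsg.Agent.CoOneType.dc
local notation "d6" => Cfsg.Agent.SuzType.dc

variable {G : Type*} [Group G] [Finite G] {z : G} (S : CoOne z)

/-- The number of fixed vectors. -/
noncomputable def fixN (g : O8) : ℕ := Nat.card {x : V8 // g.1 x = x}

/-- The kind of element of order three considered. -/
structure IsType (y : G) : Prop where
  yz : y * z = z * y
  y3 : y ^ 3 = 1
  ne : y ≠ 1
  fix : 64 ≤ fixN (S.act y)

include S

theorem act_pow {c : G} (hc : c * z = z * c) : ∀ n : ℕ, S.act (c ^ n) = S.act c ^ n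
  | 0 => by rw [pow_zero, pow_zero, S.act_one]
  | n + 1 => by rw [pow_succ, pow_succ, S.act_mul (Commute.pow_left hc n).eq hc, act_pow hc n]

theorem act_conj {c x : G} (hc : c * z = z * c) (hx : x * z = z * x) :
    S.act (c * x * c⁻¹) = S.act c * S.act x * (S.act c)⁻¹ := by
  rw [S.act_mul (Commute.mul_left hc hx).eq (Commute.inv_left hc).eq, S.act_mul hc hx, S.act_inv hc]

theorem conj_cent {c x : G} (hc : c * z = z * c) (hx : x * z = z * x) : c * x * c⁻¹ * z = z * (c * x * c⁻¹) :=
  (Commute.mul_left (Commute.mul_left hc hx) (Commute.inv_left hc)).eq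

theorem pow_four {a : G} (ha : a ∈ oc z) : a ^ 4 = 1 := by
  rw [show (4 : ℕ) = 2 * 2 from rfl, pow_mul, pow_two, pow_two, S.pr_sq a ha, S.zp_sq]

theorem eq_one_of_act {x : G} (xz : x * z = z * x) (x3 : x ^ 3 = 1) (h : S.act x = 1) : x = 1 := by
  have h4 := pow_four S (S.act_ker x xz h)
  rwa [show (4 : ℕ) = 3 + 1 from rfl, pow_succ, x3, one_mul] at h4

theorem pow_twelve {c : G} (hc : c * z = z * c) (h : S.act c ^ 3 = 1) : c ^ 12 = 1 := by
  rw [show (12 : ℕ) = 3 * 4 from rfl, pow_mul]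
  exact pow_four S (S.act_ker _ (Commute.pow_left hc 3).eq (by rw [act_pow S hc, h]))

/-- Elements of order three with the same action are conjugate by the extraspecial group. -/
theorem conj_same {x y : G} (xz : x * z = z * x) (yz : y * z = z * y) (x3 : x ^ 3 = 1) (y3 : y ^ 3 = 1)
    (h : S.act x = S.act y) : ∃ q ∈ oc z, q * x * q⁻¹ = y := by
  by_cases h1 : S.act x = 1
  · rw [eq_one_of_act S xz x3 h1, eq_one_of_act S yz y3 (h ▸ h1)]
    exact ⟨1, one_mem _, by group⟩
  let f : ↥(Subgroup.centralizer ({z} : Set G)) →* O8 := MonoidHom.mk' (fun c => S.act c) fun a b =>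
    S.act_mul (Subgroup.mem_centralizer_singleton_iff.1 a.2) (Subgroup.mem_centralizer_singleton_iff.1 b.2)
  haveI : Fact (Nat.Prime 3) := ⟨Nat.prime_three⟩
  let X : ↥(Subgroup.centralizer ({z} : Set G)) := ⟨x, Subgroup.mem_centralizer_singleton_iff.2 xz⟩
  let Y : ↥(Subgroup.centralizer ({z} : Set G)) := ⟨y, Subgroup.mem_centralizer_singleton_iff.2 yz⟩
  have ox : orderOf X = 3 := orderOf_eq_prime (Subtype.ext x3)
    (fun e => h1 (by rw [show x = 1 from congrArg Subtype.val e, S.act_one]))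
  have oy : orderOf Y = 3 := orderOf_eq_prime (Subtype.ext y3)
    (fun e => h1 (by rw [h, show y = 1 from congrArg Subtype.val e, S.act_one]))
  let J := (Subgroup.zpowers (f X)).comap f
  have hJ : Nat.card J = 512 * 3 := by
    have hk : Nat.card f.ker = 512 := by
      rw [← show Nat.card ↥(oc z) = 512 from S.card]
      refine Nat.card_congr
        { toFun := fun c => ⟨c.1.1, S.act_ker _ (Subgroup.mem_centralizer_singleton_iff.1 c.1.2) (MonoidHom.mem_ker.1 c.2)⟩
          invFun := fun a => ⟨⟨a.1, Subgroup.mem_centralizer_singleton_iff.2 (S.comm a.2)⟩,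
            MonoidHom.mem_ker.2 (S.act_inner a.2)⟩
          left_inv := fun c => rfl
          right_inv := fun a => rfl }
    have ho : orderOf (f X) = 3 := orderOf_eq_prime (by rw [← map_pow, show X ^ 3 = 1 from Subtype.ext x3, map_one]) h1
    let g : J →* Subgroup.zpowers (f X) := (f.comp J.subtype).codRestrict _ fun c => c.2
    have hs : Function.Surjective g := by
      rintro ⟨u, hu⟩
      obtain ⟨i, rfl⟩ := Subgroup.mem_zpowers_iff.1 hu
      exact ⟨⟨X ^ i, by show f (X ^ i) ∈ Subgroup.zpowers (f X); rw [map_zpow]; exact hu⟩, Subtype.ext (map_zpow f X i)⟩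
    have hgk : Nat.card g.ker = 512 := by
      rw [← hk]
      exact Nat.card_congr
        { toFun := fun c => ⟨c.1.1, MonoidHom.mem_ker.2 (congrArg Subtype.val (MonoidHom.mem_ker.1 c.2))⟩
          invFun := fun c => ⟨⟨c.1, by show f c.1 ∈ Subgroup.zpowers (f X); rw [MonoidHom.mem_ker.1 c.2]; exact one_mem _⟩,
            MonoidHom.mem_ker.2 (Subtype.ext (MonoidHom.mem_ker.1 c.2))⟩
          left_inv := fun c => rfl
          right_inv := fun a => rfl }
    have hc := g.ker.card_mul_index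
    rw [Subgroup.index_ker, MonoidHom.range_eq_top.2 hs, Subgroup.card_top, hgk, Nat.card_zpowers, ho] at hc
    exact hc.symm
  have hfac : (Nat.card J).factorization 3 = 1 := by
    rw [hJ, Nat.factorization_mul (by norm_num) (by norm_num), Finsupp.add_apply,
      Nat.factorization_eq_zero_of_not_dvd (by norm_num), Nat.Prime.factorization_self Nat.prime_three]
  let T₁ : Sylow 3 J := Sylow.ofCard ((Subgroup.zpowers X).subgroupOf J) (by
    rw [hfac, Nat.card_congr (Subgroup.subgroupOfEquivOfLe (Subgroup.zpowers_le.2 (show X ∈ J from Subgroup.mem_zpowers (f X)))).toEquiv,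
      Nat.card_zpowers, ox, pow_one])
  have hYJ : Y ∈ J := by
    show f Y ∈ Subgroup.zpowers (f X)
    rw [show f Y = f X from h.symm]
    exact Subgroup.mem_zpowers _
  let T₂ : Sylow 3 J := Sylow.ofCard ((Subgroup.zpowers Y).subgroupOf J) (by
    rw [hfac, Nat.card_congr (Subgroup.subgroupOfEquivOfLe (Subgroup.zpowers_le.2 hYJ)).toEquiv,
      Nat.card_zpowers, oy, pow_one])
  obtain ⟨j, hj⟩ := MulAction.exists_smul_eq J T₁ T₂
  let XJ : J := ⟨X, Subgroup.mem_zpowers (f X)⟩
  have hm : j * XJ * j⁻¹ ∈ (T₂ : Subgroup J) := by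
    rw [← hj, Sylow.coe_subgroup_smul]
    exact Subgroup.smul_mem_pointwise_smul XJ (MulAut.conj j) _ (Subgroup.mem_zpowers X)
  have hm' : (j : ↥(Subgroup.centralizer ({z} : Set G))) * X * (j : ↥(Subgroup.centralizer ({z} : Set G)))⁻¹ ∈
      Subgroup.zpowers Y := hm
  have hmG : ((j : ↥(Subgroup.centralizer ({z} : Set G))) : G) * x *
      ((j : ↥(Subgroup.centralizer ({z} : Set G))) : G)⁻¹ ∈ Subgroup.zpowers y := by
    obtain ⟨k, hk⟩ := Subgroup.mem_zpowers_iff.1 hm'
    exact Subgroup.mem_zpowers_iff.2 ⟨k, congrArg Subtype.val hk⟩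
  obtain ⟨i, hi⟩ := Subgroup.mem_zpowers_iff.1 (show f (j : ↥(Subgroup.centralizer ({z} : Set G))) ∈ _ from j.2)
  obtain ⟨c, hc⟩ : ∃ c : ↥(Subgroup.centralizer ({z} : Set G)), c = (j : ↥(Subgroup.centralizer ({z} : Set G))) * (X ^ i)⁻¹ :=
    ⟨_, rfl⟩
  have hcz := Subgroup.mem_centralizer_singleton_iff.1 c.2
  have hcf : S.act (c : G) = 1 := by
    show f c = 1
    rw [hc, map_mul, map_inv, map_zpow, hi, mul_inv_cancel]
  have e0 : (c : G) * x * (c : G)⁻¹ = ((j : ↥(Subgroup.centralizer ({z} : Set G))) : G) * x *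
      ((j : ↥(Subgroup.centralizer ({z} : Set G))) : G)⁻¹ := by
    rw [hc, Subgroup.coe_mul, Subgroup.coe_inv, Subgroup.coe_zpow]
    show _ * (x ^ i)⁻¹ * x * (_ * (x ^ i)⁻¹)⁻¹ = _
    group
  refine ⟨(c : G), S.act_ker _ hcz hcf, ?_⟩
  rw [← e0] at hmG
  obtain ⟨k, hk⟩ := Subgroup.mem_zpowers_iff.1 hmG
  have ey : orderOf y = 3 := orderOf_eq_prime y3 (fun e => h1 (by rw [h, e, S.act_one]))
  rw [← hk, ← zpow_mod_orderOf, ey]
  have ha := act_conj S hcz xz
  rw [← hk, ← zpow_mod_orderOf, ey, hcf, one_mul, inv_one, mul_one] at ha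
  have h0 : (0 : ℤ) ≤ k % 3 := Int.emod_nonneg _ (by norm_num)
  have h2 : k % 3 < 3 := Int.emod_lt_of_pos _ (by norm_num)
  rw [show ((3 : ℕ) : ℤ) = 3 from rfl] at ha ⊢
  interval_cases hk3 : k % 3
  · exfalso
    rw [zpow_zero, S.act_one] at ha
    exact h1 ha.symm
  · rw [zpow_one]
  · exfalso
    rw [show ((2 : ℤ)) = ((2 : ℕ) : ℤ) from rfl, zpow_natCast,
      act_pow S yz, h] at ha
    rw [pow_two, mul_eq_left] at ha
    exact h1 (h.trans ha)

/-- Lifting a conjugating element inside a centraliser. -/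
theorem conj_same_in {x x' y : G} (xz : x * z = z * x) (x'z : x' * z = z * x') (x3 : x ^ 3 = 1) (x'3 : x' ^ 3 = 1)
    (h : S.act x = S.act x') (yz : y * z = z * y) (y3 : y ^ 3 = 1) (yx : y * x = x * y) (yx' : y * x' = x' * y) :
    ∃ q ∈ oc z, q * y = y * q ∧ q * x * q⁻¹ = x' := by
  obtain ⟨q, hq, hqe⟩ := conj_same S xz x'z x3 x'3 h
  let D : Subgroup G := oc z ⊓ Subgroup.centralizer ({x} : Set G)
  let T := {a : G // a ∈ oc z ∧ a * x * a⁻¹ = x'}
  have hcard : Nat.card T = Nat.card D := Nat.card_congr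
    { toFun := fun a => ⟨q⁻¹ * a.1, (oc z).mul_mem ((oc z).inv_mem hq) a.2.1, Subgroup.mem_centralizer_singleton_iff.2 (by
        calc q⁻¹ * a.1 * x = q⁻¹ * (a.1 * x * a.1⁻¹) * a.1 := by group
          _ = q⁻¹ * (q * x * q⁻¹) * a.1 := by rw [a.2.2, hqe]
          _ = x * (q⁻¹ * a.1) := by group)⟩
      invFun := fun d => ⟨q * d.1, mul_mem hq d.2.1, by
        have hd := Subgroup.mem_centralizer_singleton_iff.1 d.2.2
        calc q * d.1 * x * (q * d.1)⁻¹ = q * (d.1 * x) * d.1⁻¹ * q⁻¹ := by group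
          _ = q * x * q⁻¹ := by rw [hd]; group
          _ = x' := hqe⟩
      left_inv := fun a => Subtype.ext (mul_inv_cancel_left _ _)
      right_inv := fun d => Subtype.ext (inv_mul_cancel_left _ _) }
  have hnd : ¬ 3 ∣ Nat.card T := by
    intro h3
    rw [hcard] at h3
    have := h3.trans ((Subgroup.card_dvd_of_le inf_le_left).trans (dvd_of_eq S.card))
    norm_num at this
  have hm : ∀ a : T, y * a.1 * y⁻¹ ∈ oc z ∧ y * a.1 * y⁻¹ * x * (y * a.1 * y⁻¹)⁻¹ = x' := fun a => by
    refine ⟨S.nrm yz a.2.1, ?_⟩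
    have e1 : y⁻¹ * x * y = x := by rw [mul_assoc, ← yx, inv_mul_cancel_left]
    calc y * a.1 * y⁻¹ * x * (y * a.1 * y⁻¹)⁻¹ = y * (a.1 * (y⁻¹ * x * y) * a.1⁻¹) * y⁻¹ := by group
      _ = y * x' * y⁻¹ := by rw [e1, a.2.2]
      _ = x' := by rw [yx', mul_inv_cancel_right]
  obtain ⟨a, ha⟩ := fixed_point hnd (fun a => (⟨y * a.1 * y⁻¹, hm a⟩ : T)) (fun a => Subtype.ext (by
    show y * (y * (y * a.1 * y⁻¹) * y⁻¹) * y⁻¹ = a.1
    calc y * (y * (y * a.1 * y⁻¹) * y⁻¹) * y⁻¹ = (y * y * y) * a.1 * (y * y * y)⁻¹ := by group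
      _ = a.1 := by rw [show y * y * y = y ^ 3 by rw [pow_succ, pow_two], y3]; group))
  exact ⟨a.1, a.2.1, (mul_inv_eq_iff_eq_mul.1 (congrArg Subtype.val ha)).symm, a.2.2⟩

theorem comm_iff_fixed {y a : G} (yz : y * z = z * y) (y3 : y ^ 3 = 1) (ha : a ∈ oc z) :
    y * a = a * y ↔ (S.act y).1 (S.pr a) = S.pr a := by
  constructor
  · intro h
    rw [← S.act_spec y yz a ha, h, mul_inv_cancel_right]
  · intro h
    rw [← S.act_spec y yz a ha] at h
    rcases S.pr_eq ha (S.nrm yz ha) h.symm with e | e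
    · exact mul_inv_eq_iff_eq_mul.1 e
    · exfalso
      have h2 : y * (a * z) * y⁻¹ = a := by
        calc y * (a * z) * y⁻¹ = y * a * y⁻¹ * (y * z * y⁻¹) := by group
          _ = a * z * z := by rw [e, yz, mul_inv_cancel_right]
          _ = a := by rw [mul_assoc, S.zz, mul_one]
      have h3 : a = a * z := by
        calc a = y ^ 3 * a * (y ^ 3)⁻¹ := by rw [y3]; group
          _ = y * (y * (y * a * y⁻¹) * y⁻¹) * y⁻¹ := by rw [pow_succ, pow_two]; group
          _ = a * z := by rw [e, h2, e]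
      exact S.zne (mul_eq_left.1 h3.symm)

/-- Counting a set of elements of the extraspecial group given by their images. -/
theorem card_pre (P : V8 → Prop) :
    Nat.card {a : G // a ∈ oc z ∧ P (S.pr a)} = 2 * Nat.card {v : V8 // P v} := by
  classical
  choose lift hlift hpr using S.pr_surj
  let e : {v : V8 // P v} × Fin 2 → {a : G // a ∈ oc z ∧ P (S.pr a)} := fun p =>
    ⟨lift p.1.1 * zp z (p.2.val : ZMod 2), mul_mem (hlift _) (S.zp_mem _), by
      rw [S.pr_mul _ (hlift _) _ (S.zp_mem _), S.pr_zp, add_zero, hpr]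
      exact p.1.2⟩
  have he : Function.Bijective e := by
    constructor
    · rintro ⟨⟨v, hv⟩, i⟩ ⟨⟨v', hv'⟩, i'⟩ h
      have h' : lift v * zp z (i.val : ZMod 2) = lift v' * zp z (i'.val : ZMod 2) := congrArg Subtype.val h
      have hp := congrArg S.pr h'
      simp only [S.pr_mul _ (hlift _) _ (S.zp_mem _), S.pr_zp, add_zero, hpr] at hp
      subst hp
      have := zp_inj S.zne (mul_left_cancel h')
      have key : ∀ a b : Fin 2, (a.val : ZMod 2) = (b.val : ZMod 2) → a = b := by decide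
      rw [key _ _ this]
    · rintro ⟨a, ha, hP⟩
      rcases S.pr_eq (hlift (S.pr a)) ha (hpr _) with e' | e'
      · exact ⟨(⟨S.pr a, hP⟩, 0), Subtype.ext (by
          show lift (S.pr a) * zp z ((0 : ℕ) : ZMod 2) = a
          rw [Nat.cast_zero, zp_zero, mul_one]; exact e'.symm)⟩
      · exact ⟨(⟨S.pr a, hP⟩, 1), Subtype.ext (by
          show lift (S.pr a) * zp z ((1 : ℕ) : ZMod 2) = a
          rw [Nat.cast_one, zp_one]; exact e'.symm)⟩
  rw [← Nat.card_congr (Equiv.ofBijective e he), Nat.card_prod, Nat.card_fin, mul_comm]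

theorem card_cent_oc {y : G} (yz : y * z = z * y) (y3 : y ^ 3 = 1) :
    Nat.card ↥(oc z ⊓ Subgroup.centralizer ({y} : Set G)) = 2 * fixN (S.act y) := by
  rw [fixN, ← card_pre S fun v => (S.act y).1 v = v]
  refine Nat.card_congr (Equiv.subtypeEquivRight fun a => ?_)
  rw [Subgroup.mem_inf, Subgroup.mem_centralizer_singleton_iff]
  exact and_congr_right fun ha => ⟨fun h => (comm_iff_fixed S yz y3 ha).1 h.symm,
    fun h => ((comm_iff_fixed S yz y3 ha).2 h).symm⟩

/-- All these elements are conjugate. -/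
theorem conj_type {x y : G} (hx : IsType S x) (hy : IsType S y) : ∃ c, c * z = z * c ∧ c * x * c⁻¹ = y := by
  obtain ⟨a, da, ea⟩ := normal_form (S.act x) (by rw [← act_pow S hx.yz, hx.y3, S.act_one])
    (fun e => hx.ne (eq_one_of_act S hx.yz hx.y3 e)) hx.fix
  obtain ⟨b, db, eb⟩ := normal_form (S.act y) (by rw [← act_pow S hy.yz, hy.y3, S.act_one])
    (fun e => hy.ne (eq_one_of_act S hy.yz hy.y3 e)) hy.fix
  obtain ⟨c, hc, hca⟩ := S.act_surj (b⁻¹ * a) (by rw [dsign_mul8, dsign_inv8 db, da, one_mul])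
  obtain ⟨q, hq, hqe⟩ := conj_same S (conj_cent S hc hx.yz) hy.yz (by rw [conj_pow, hx.y3]; group) hy.y3 (by
    rw [act_conj S hc hx.yz, hca]
    calc b⁻¹ * a * S.act x * (b⁻¹ * a)⁻¹ = b⁻¹ * (a * S.act x * a⁻¹) * b := by group
      _ = b⁻¹ * (b * S.act y * b⁻¹) * b := by rw [ea, eb]
      _ = _ := by group)
  exact ⟨q * c, (Commute.mul_left (S.comm hq) hc).eq, by rw [← hqe]; group⟩

/-- Change of coordinates. -/
theorem rebase {c : O8} (hc : dsign c = 1) : ∃ S' : CoOne z, ∀ d, S'.act d = c * S.act d * c⁻¹ := by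
  refine ⟨{ sett := S.sett, card := S.card, pr := fun a => c.1 (S.pr a),
            pr_mul := fun a ha b hb => by rw [S.pr_mul a ha b hb, map_add]
            pr_ker := fun a ha h => S.pr_ker a ha (c.1.map_eq_zero_iff.1 h)
            pr_z := by rw [S.pr_z, map_zero]
            pr_surj := fun v => by
              obtain ⟨u, rfl⟩ := c.1.surjective v
              obtain ⟨a, ha, rfl⟩ := S.pr_surj u
              exact ⟨a, ha, rfl⟩
            pr_sq := fun a ha => by rw [c.2]; exact S.pr_sq a ha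
            act := fun d => c * S.act d * c⁻¹
            act_spec := fun d hd a ha => by
              rw [S.act_spec d hd a ha, ← oG_mul_apply, ← oG_mul_apply, inv_mul_cancel_right]
            act_even := fun d hd => by rw [dsign_mul8, dsign_mul8, hc, S.act_even d hd, dsign_inv8 hc]; rfl
            act_surj := fun g hg => by
              obtain ⟨d, hd, e⟩ := S.act_surj (c⁻¹ * g * c) (by rw [dsign_mul8, dsign_mul8, dsign_inv8 hc, hg, hc]; rfl)
              exact ⟨d, hd, by rw [e]; group⟩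
            act_ker := fun d hd h => S.act_ker d hd (by
              calc S.act d = c⁻¹ * (c * S.act d * c⁻¹) * c := by group
                _ = 1 := by rw [h]; group)
            cent_card := S.cent_card
            nwc := S.nwc }, fun d => rfl⟩

theorem exists_standard {y : G} (hy : IsType S y) : ∃ S' : CoOne z, S'.act y = R8 := by
  obtain ⟨c, dc', e⟩ := normal_form (S.act y) (by rw [← act_pow S hy.yz, hy.y3, S.act_one])
    (fun e => hy.ne (eq_one_of_act S hy.yz hy.y3 e)) hy.fix
  obtain ⟨S', hS'⟩ := rebase S dc'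
  exact ⟨S', by rw [hS', e]⟩

/-- The elements of order three in question. -/
theorem isType_of_comm {y : G} (yz : y * z = z * y) (y3 : y ^ 3 = 1) (y1 : y ≠ 1)
    (W : Subgroup G) (hW : W ≤ oc z) (hz : z ∈ W) (hcard : Nat.card W = 8)
    (hcom : ∀ a ∈ oc z, y * a * y⁻¹ * a⁻¹ ∈ W) : IsType S y := by
  classical
  refine ⟨yz, y3, y1, ?_⟩
  let N : V8 →+ V8 := AddMonoidHom.mk' (fun x => (S.act y).1 x + x) fun a b => by
    rw [map_add]; abel
  have hmem : ∀ v : N.range, ∃ w, w ∈ W ∧ S.pr w = (v : V8) := by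
    rintro ⟨_, x, rfl⟩
    obtain ⟨a, ha, rfl⟩ := S.pr_surj x
    refine ⟨_, hcom a ha, ?_⟩
    show _ = (S.act y).1 (S.pr a) + S.pr a
    rw [S.pr_mul _ (S.nrm yz ha) _ (inv_mem ha), S.act_spec y yz a ha, S.pr_inv ha]
  choose lift hl hp using hmem
  have hinj : Function.Injective (fun p : N.range × Fin 2 =>
      (⟨lift p.1 * z ^ p.2.val, mul_mem (hl p.1) (pow_mem hz _)⟩ : W)) := by
    rintro ⟨v, i⟩ ⟨v', i'⟩ e
    have e' : lift v * z ^ i.val = lift v' * z ^ i'.val := congrArg Subtype.val e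
    have hzp : ∀ k : ℕ, S.pr (z ^ k) = 0 := by
      intro k
      induction k with
      | zero => rw [pow_zero, S.pr_one]
      | succ k ih => rw [pow_succ, S.pr_mul _ (pow_mem S.zmem k) _ S.zmem, ih, S.pr_z, add_zero]
    have h1 := congrArg S.pr e'
    rw [S.pr_mul _ (hW (hl v)) _ (pow_mem S.zmem _), S.pr_mul _ (hW (hl v')) _ (pow_mem S.zmem _), hzp, hzp,
      add_zero, add_zero, hp, hp] at h1
    obtain rfl : v = v' := Subtype.ext h1
    have h2 := mul_left_cancel e'
    fin_cases i <;> fin_cases i' <;> simp [S.zne, S.zne.symm] at h2 ⊢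
  have hle := Nat.card_le_card_of_injective _ hinj
  rw [Nat.card_prod, Nat.card_fin, hcard] at hle
  have hc := N.ker.card_mul_index
  rw [AddSubgroup.index_ker, show Nat.card V8 = 256 by simp] at hc
  have hk : Nat.card N.ker = fixN (S.act y) := Nat.card_congr (Equiv.subtypeEquivRight fun x => by
    show (S.act y).1 x + x = 0 ↔ (S.act y).1 x = x
    exact ⟨CoOneType.v_eq_of_add, fun e => by rw [e, CoOneType.v_add_self]⟩)
  rw [hk] at hc
  nlinarith

/-- The standard situation. -/
structure Std3 (y : G) : Prop where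
  yz : y * z = z * y
  y3 : y ^ 3 = 1
  act : S.act y = R8

variable {S} {y : G} (h : Std3 S y)
include h

theorem fix_card : fixN R8 = 64 := by
  rw [fixN, show (64 : ℕ) = Nat.card V6 by simp]
  exact Nat.card_congr
    { toFun := fun x => prj x.1
      invFun := fun u => ⟨iot u, R8_iot u⟩
      left_inv := fun x => Subtype.ext ((prP_zero_iff _).1 ((fix_R8 _).1 x.2))
      right_inv := prj_iot }

theorem std_type : IsType S y where
  yz := h.yz
  y3 := h.y3
  ne := fun e => by
    have h1 : R8 ^ 1 = 1 := by rw [pow_one, ← h.act, e, S.act_one]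
    exact absurd (R8_pow_ne 1 (by norm_num) h1) (by norm_num)
  fix := by rw [h.act, fix_card h]

theorem comm_iff_prP {a : G} (ha : a ∈ oc z) : y * a = a * y ↔ prP (S.pr a) = 0 := by
  rw [comm_iff_fixed S h.yz h.y3 ha, h.act, fix_R8]

theorem exists_cent {g : O8} (hg : dsign g = 1) (hc : Commute R8 g) :
    ∃ c, c * z = z * c ∧ c * y = y * c ∧ S.act c = g := by
  obtain ⟨c, cz, rfl⟩ := S.act_surj g hg
  obtain ⟨q, hq, e⟩ := conj_same S (conj_cent S cz h.yz) h.yz (by rw [conj_pow, h.y3]; group) h.y3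
    (by rw [act_conj S cz h.yz, h.act, ← hc.eq, mul_inv_cancel_right])
  refine ⟨q * c, (Commute.mul_left (S.comm hq) cz).eq, ?_, by rw [S.act_mul (S.comm hq) cz, S.act_inner hq, one_mul]⟩
  refine mul_inv_eq_iff_eq_mul.1 ?_
  calc q * c * y * (q * c)⁻¹ = q * (c * y * c⁻¹) * q⁻¹ := by group
    _ = y := e

open Cfsg.Agent.CoOneType.CoOne in
theorem count_at {w : G} (F : S.Fr w) (yw : y * w = w * y) :
    128 ≤ Nat.card ↥(oc w ⊓ Subgroup.centralizer ({y} : Set G)) := by
  classical
  haveI : Fintype G := Fintype.ofFinite _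
  have hl : ∀ i : Fin 16, sgi.getD i.val 0 < 64 := fun i => (sgi_tables i).1
  have hle : ∀ i : Fin 16, emb (sgi.getD i.val 0) < 256 := fun i => (six_spec (hl i)).1
  have hperp : ∀ i : Fin 16, CoOneType.Bp (d8 (emb (sgi.getD i.val 0))) (d8 1) = 0 := by
    intro i
    rw [CoOneType.Bp_dc (hle i) (by norm_num), (sgi_tables i).2.1]
    rfl
  choose x hxw hxz hxa using fun i : Fin 16 => exists_sg F (hperp i)
  have e1 : R8.1 (d8 1) = d8 1 := by rw [R8_dc (by norm_num)]; rfl
  have hxy : ∀ i, y * x i = x i * y := by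
    intro i
    obtain ⟨k, hk, hk', e⟩ := same_act F (hxw i) (hxz i) (nrm_w F yw (hxw i)) (conj_cent S h.yz (hxz i)) fun u => by
      obtain ⟨u, rfl⟩ := R8.1.surjective u
      rw [act_conj S h.yz (hxz i), h.act, oG_mul_apply, oG_mul_apply, hxa i, hxa i]
      conv_rhs => rw [show (R8⁻¹).1 (R8.1 u) = u by rw [← oG_mul_apply, inv_mul_cancel, oG_one_apply],
        CoOneType.sg_equiv R8 e1, show R8.1 (d8 (emb (sgi.getD i.val 0))) = d8 (emb (sgi.getD i.val 0)) by
          rw [← iot_dc (hl i), R8_iot]]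
    have ky : y * k = k * y := inter_comm F hk hk' h.yz yw
    have k2 := inter_sq F hk hk'
    have h2 : y * (x i * k) * y⁻¹ = x i := by
      calc y * (x i * k) * y⁻¹ = y * x i * y⁻¹ * (y * k * y⁻¹) := by group
        _ = x i * k * k := by rw [e, ky, mul_inv_cancel_right]
        _ = x i := by rw [mul_assoc, k2, mul_one]
    have h3 : x i = x i * k := by
      calc x i = y ^ 3 * x i * (y ^ 3)⁻¹ := by rw [h.y3]; group
        _ = y * (y * (y * x i * y⁻¹) * y⁻¹) * y⁻¹ := by rw [pow_succ, pow_two]; group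
        _ = x i * k := by rw [e, h2, e]
    exact mul_inv_eq_iff_eq_mul.1 (e.trans h3.symm)
  -- an element outside
  obtain ⟨u, hu, hur, hout⟩ : ∃ u, u ∈ oc w ∧ y * u = u * y ∧ u * z ≠ z * u := by
    let T := {a : G // a ∈ oc w ∧ a * z ≠ z * a}
    obtain ⟨g, hg, hm, h0, htr⟩ := transport F
    have hw512 : Nat.card ↥(oc w) = 512 := by
      rw [← show Nat.card ↥(oc z) = 512 from S.card]
      exact Nat.card_congr
        { toFun := fun x => ⟨g⁻¹ * x.1 * g, by
            have h1 := conj_mem_oc (g := g⁻¹) x.2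
            rwa [show g⁻¹ * w * g⁻¹⁻¹ = z by rw [← hg]; group, inv_inv] at h1⟩
          invFun := fun a => ⟨g * a.1 * g⁻¹, hg ▸ conj_mem_oc a.2⟩
          left_inv := fun x => Subtype.ext (by simp [mul_assoc])
          right_inv := fun a => Subtype.ext (by simp [mul_assoc]) }
    have h256 : Nat.card ↥(oc w ⊓ Subgroup.centralizer ({z} : Set G)) = 256 := by
      rw [← card_comm F hm h0]
      exact Nat.card_congr
        { toFun := fun x => ⟨g⁻¹ * x.1 * g, (by
              have h1 := conj_mem_oc (g := g⁻¹) x.2.1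
              rwa [show g⁻¹ * w * g⁻¹⁻¹ = z by rw [← hg]; group, inv_inv] at h1),
            Subgroup.mem_centralizer_singleton_iff.2 (by
              calc g⁻¹ * x.1 * g * (g⁻¹ * z * g) = g⁻¹ * (x.1 * z) * g := by group
                _ = g⁻¹ * z * g * (g⁻¹ * x.1 * g) := by
                  rw [Subgroup.mem_centralizer_singleton_iff.1 x.2.2]; group)⟩
          invFun := fun a => ⟨g * a.1 * g⁻¹,
            (htr a.1 a.2.1 (Subgroup.mem_centralizer_singleton_iff.1 a.2.2)).1,
            Subgroup.mem_centralizer_singleton_iff.2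
              (htr a.1 a.2.1 (Subgroup.mem_centralizer_singleton_iff.1 a.2.2)).2⟩
          left_inv := fun x => Subtype.ext (by simp [mul_assoc])
          right_inv := fun a => Subtype.ext (by simp [mul_assoc]) }
    have hT : Nat.card T = 256 := by
      let A : Finset G := Finset.univ.filter (· ∈ oc w)
      let B : Finset G := Finset.univ.filter (· ∈ oc w ⊓ Subgroup.centralizer ({z} : Set G))
      have hA : A.card = 512 := by rw [← hw512, Nat.card_eq_fintype_card, Fintype.card_subtype]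
      have hB : B.card = 256 := by rw [← h256, Nat.card_eq_fintype_card, Fintype.card_subtype]
      have hBA : B ⊆ A := fun a ha => Finset.mem_filter.2 ⟨Finset.mem_univ _, (Finset.mem_filter.1 ha).2.1⟩
      have hs := Finset.card_sdiff_of_subset hBA
      rw [hA, hB] at hs
      rw [show Nat.card T = (A \ B).card from ?_, hs]
      rw [Nat.card_eq_fintype_card, Fintype.card_subtype]
      congr 1
      ext a
      simp [A, B, Subgroup.mem_centralizer_singleton_iff]
      tauto
    obtain ⟨⟨a, ha⟩, e⟩ := fixed_point (α := T) (by rw [hT]; norm_num)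
      (fun a => ⟨y * a.1 * y⁻¹, nrm_w F yw a.2.1, fun e => a.2.2 (by
        have := conj_cent S (Commute.inv_left h.yz).eq e
        rwa [inv_inv, show y⁻¹ * (y * a.1 * y⁻¹) * y = a.1 by group] at this)⟩)
      (fun a => Subtype.ext (by
        show y * (y * (y * a.1 * y⁻¹) * y⁻¹) * y⁻¹ = a.1
        calc y * (y * (y * a.1 * y⁻¹) * y⁻¹) * y⁻¹ = (y * y * y) * a.1 * (y * y * y)⁻¹ := by group
          _ = a.1 := by rw [show y * y * y = y ^ 3 by rw [pow_succ, pow_two], h.y3]; group))
    exact ⟨a, ha.1, mul_inv_eq_iff_eq_mul.1 (congrArg Subtype.val e), ha.2⟩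
  have hzw := zmem_oc F
  let k : Fin 2 × Fin 2 → G := fun p => w ^ p.1.val * z ^ p.2.val
  let f : Fin 2 × Fin 16 × (Fin 2 × Fin 2) → ↥(oc w ⊓ Subgroup.centralizer ({y} : Set G)) := fun p =>
    ⟨u ^ p.1.val * (x p.2.1 * k p.2.2), mul_mem (pow_mem hu _) (mul_mem (hxw _)
      (mul_mem (pow_mem (mem_oc_self (wset F).ord) _) (pow_mem hzw _))),
      Subgroup.mem_centralizer_singleton_iff.2 ((Commute.mul_left ((show Commute u y from hur.symm).pow_left _)
        (Commute.mul_left (hxy _).symm (Commute.mul_left ((show Commute w y from yw.symm).pow_left _)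
          ((show Commute z y from h.yz.symm).pow_left _)))).eq)⟩
  have hkz : ∀ p, k p * z = z * k p := fun p =>
    (Commute.mul_left ((show Commute w z from wz F).pow_left _) ((Commute.refl z).pow_left _)).eq
  have hkm : ∀ p, k p ∈ oc z := fun p => mul_mem (pow_mem F.mem _) (pow_mem S.zmem _)
  have hinj : Function.Injective f := by
    rintro ⟨a, i, p⟩ ⟨a', i', p'⟩ e
    have e' : u ^ a.val * (x i * k p) = u ^ a'.val * (x i' * k p') := congrArg Subtype.val e
    have c1 : ∀ j q, (x j * k q) * z = z * (x j * k q) := fun j q => (Commute.mul_left (hxz j) (hkz q)).eq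
    have haa : a = a' := by
      have notin : ∀ A B : G, A * z = z * A → B * z = z * B → A ≠ u * B := by
        intro A B hA hB he
        apply hout
        rw [show u = A * B⁻¹ by rw [he, mul_inv_cancel_right]]
        exact (Commute.mul_left hA (Commute.inv_left hB)).eq
      fin_cases a <;> fin_cases a' <;> simp at e' ⊢
      · exact notin _ _ (c1 i p) (c1 i' p') e'
      · exact notin _ _ (c1 i' p') (c1 i p) e'.symm
    subst haa
    have e2 := mul_left_cancel e'
    have hact := congrArg S.act e2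
    rw [S.act_mul (hxz i) (hkz p), S.act_mul (hxz i') (hkz p'), S.act_inner (hkm p), S.act_inner (hkm p'),
      mul_one, mul_one] at hact
    have hii : i = i' := by
      refine (sgi_tables i).2.2 i' (List.all_eq_true.2 fun v hv => beq_iff_eq.2 ?_)
      have hv256 : v < 256 := (by decide : ∀ v ∈ [1, 2, 4, 8, 16, 32, 64, 128], v < 256) v hv
      have hlt : ∀ w, w < 256 → CoOneType.sgn w v < 256 := by
        intro w hw
        unfold CoOneType.sgn
        refine CoOneType.xor_lt (CoOneType.xor_lt hv256 (by split_ifs <;> norm_num)) ?_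
        split_ifs <;> first | exact CoOneType.xor_lt hw (by norm_num) | norm_num
      refine CoOneType.dc_inj (hlt _ (hle i)) (hlt _ (hle i')) ?_
      rw [← CoOneType.sg_dc (hle i) hv256, ← CoOneType.sg_dc (hle i') hv256, ← hxa i, ← hxa i', hact]
    subst hii
    have e3 := mul_left_cancel e2
    have hw1 := wne F
    have hwz := w_ne_z F
    have hp : p = p' := by
      obtain ⟨p1, p2⟩ := p
      obtain ⟨p1', p2'⟩ := p'
      have hwzne : w * z ≠ 1 := fun e => hwz (by
        calc w = w * (z * z) := by rw [S.zz, mul_one]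
          _ = w * z * z := (mul_assoc _ _ _).symm
          _ = z := by rw [e, one_mul])
      fin_cases p1 <;> fin_cases p2 <;> fin_cases p1' <;> fin_cases p2' <;>
        simp [k, S.zne, S.zne.symm, hw1, hw1.symm, hwz, hwz.symm, hwzne, hwzne.symm] at e3 ⊢
    rw [hp]
  simpa using Nat.card_le_card_of_injective f hinj

open Cfsg.Agent.CoOneType.CoOne in
/-- The centraliser of `y` does not fix `z` weakly. -/
theorem exists_move : ∃ w n, S.Fr w ∧ y * w = w * y ∧ n * z * n⁻¹ = w ∧ n * y = y * n := by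
  obtain ⟨w, F⟩ := S.exists_fr
  have yw : y * w = w * y := (comm_iff_fixed S h.yz h.y3 F.mem).2 (by
    rw [h.act, F.pr_eq, R8_dc (by norm_num)]; rfl)
  obtain ⟨g, hg⟩ := F.conj
  have hz' : g⁻¹ * y * g * z = z * (g⁻¹ * y * g) := by
    calc g⁻¹ * y * g * z = g⁻¹ * (y * w) * g := by rw [← hg]; group
      _ = g⁻¹ * (w * y) * g := by rw [yw]
      _ = _ := by rw [← hg]; group
  have y3' : (g⁻¹ * y * g) ^ 3 = 1 := by
    have := conj_pow (a := g⁻¹) (b := y) (i := 3)
    rw [inv_inv] at this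
    rw [this, h.y3]; group
  have hc := count_at h F yw
  have hcard : Nat.card ↥(oc z ⊓ Subgroup.centralizer ({g⁻¹ * y * g} : Set G)) =
      Nat.card ↥(oc w ⊓ Subgroup.centralizer ({y} : Set G)) := Nat.card_congr
    { toFun := fun a => ⟨g * a.1 * g⁻¹, hg ▸ conj_mem_oc a.2.1, Subgroup.mem_centralizer_singleton_iff.2 (by
        calc g * a.1 * g⁻¹ * y = g * (a.1 * (g⁻¹ * y * g)) * g⁻¹ := by group
          _ = y * (g * a.1 * g⁻¹) := by rw [Subgroup.mem_centralizer_singleton_iff.1 a.2.2]; group)⟩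
      invFun := fun x => ⟨g⁻¹ * x.1 * g, (by
          have h1 := conj_mem_oc (g := g⁻¹) x.2.1
          rwa [show g⁻¹ * w * g⁻¹⁻¹ = z by rw [← hg]; group, inv_inv] at h1),
        Subgroup.mem_centralizer_singleton_iff.2 (by
          calc g⁻¹ * x.1 * g * (g⁻¹ * y * g) = g⁻¹ * (x.1 * y) * g := by group
            _ = (g⁻¹ * y * g) * (g⁻¹ * x.1 * g) := by
              rw [Subgroup.mem_centralizer_singleton_iff.1 x.2.2]; group)⟩
      left_inv := fun x => Subtype.ext (by simp [mul_assoc])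
      right_inv := fun a => Subtype.ext (by simp [mul_assoc]) }
  have ht : IsType S (g⁻¹ * y * g) := ⟨hz', y3', fun e => (std_type h).ne (by
    calc y = g * (g⁻¹ * y * g) * g⁻¹ := by group
      _ = 1 := by rw [e]; group), by
    have := card_cent_oc S hz' y3'
    omega⟩
  obtain ⟨c, cz, ce⟩ := conj_type S (std_type h) ht
  refine ⟨w, g * c, F, yw, ?_, ?_⟩
  · calc g * c * z * (g * c)⁻¹ = g * (c * z) * c⁻¹ * g⁻¹ := by group
      _ = w := by rw [cz, ← hg]; group
  · refine mul_inv_eq_iff_eq_mul.1 ?_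
    calc g * c * y * (g * c)⁻¹ = g * (c * y * c⁻¹) * g⁻¹ := by group
      _ = y := by rw [ce]; group

end Cfsg.Agent.CoOneThree
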